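import Groth.Agent.CentConn12.Hopf
import Groth.Agent.AGFQuot23.FixedPoint
import Groth.Agent.HMTor29.MaxTorus
import Groth.Agent.MaxTorus26.Basic
import Groth.Agent.SGA3cLib.MTTransporter
import Groth.Agent.SGA3cLib.TorusBasic

/-!
# Centralizers of tori in connected affine groups over an algebraically closed field
-/

set_option autoImplicit false
set_option backward.isDefEq.respectTransparency.types false
set_option maxHeartbeats 800000
set_option linter.style.haveILetI false

universe u

open CategoryTheory CategoryTheory.Limits MonoidalCategory CartesianMonoidalCategory MonObj GrpObj AlgebraicGeometry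
open WithConv

noncomputable section

namespace Groth.Agent.CentConn12

/-- A centralizer of a torus in a smooth separated group scheme is a smooth closed subgroup scheme. -/
theorem smooth_closed {S : Scheme.{u}} {G : Over S} [GrpObj G] [Smooth G.hom] [IsSeparated G.hom]
    {T : Over S} [GrpObj T] (hT : Red.IsTorus T) (j : T ⟶ G) [IsMonHom j]
    {C : Over S} [GrpObj C] {c : C ⟶ G} (hC : Red.IsCentralizerOf j c) :
    Smooth C.hom ∧ IsClosedImmersion c.left := by
  obtain ⟨Z, gZ, z, hz, hcl, hsm⟩ := Groth.Agent.SGA3cLib.MTTransporter.exists_centralizer j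
    (Groth.Agent.SGA3cLib.CentralFib.locally_of_multTypeFT (Groth.Agent.MultExt26.isMultTypeFT_of_torus T hT))
  haveI := hC.2.1
  haveI := hz.2.1
  obtain ⟨t, ht⟩ := (hz.2.2 C c).2 ((hC.2.2 C c).1 ⟨𝟙 C, Category.id_comp c⟩)
  obtain ⟨s, hs⟩ := (hC.2.2 Z z).2 ((hz.2.2 Z z).1 ⟨𝟙 Z, Category.id_comp z⟩)
  haveI : IsIso t := ⟨s, by rw [← cancel_mono c, Category.assoc, hs, ht, Category.id_comp],
    by rw [← cancel_mono z, Category.assoc, ht, hs, Category.id_comp]⟩
  haveI : IsIso t.left := inferInstanceAs (IsIso ((Over.forget _).map t))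
  haveI := hcl
  haveI := hsm
  refine ⟨?_, ?_⟩
  · rw [← Over.w t]; infer_instance
  · rw [← ht, Over.comp_left]; infer_instance

variable {k : Type u} [Field k] [IsAlgClosed k]

theorem ratPt_surjective {A : Type u} [CommRing A] [HopfAlgebra k A]
    (y : 𝟙_ (Over (Spec (CommRingCat.of k))) ⟶ HopfQuot.spec (k := k) A) :
    ∃ w : HopfQuot.Pt k A k, AGFQuot23.ratPt w = y := by
  obtain ⟨φ, hφ⟩ := Spec.map_surjective y.left
  have hw : y.left ≫ (HopfQuot.spec (k := k) A).hom = 𝟙 _ := Over.w y
  rw [← hφ] at hw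
  have hw' : CommRingCat.ofHom (algebraMap k A) ≫ φ = 𝟙 (CommRingCat.of k) := Spec.map_injective (by
    rw [Spec.map_comp, Spec.map_id]
    exact hw)
  exact ⟨toConv { φ.hom with commutes' := fun x => congrArg (fun f => f.hom x) hw' }, Over.OverMorphism.ext hφ⟩

theorem ratPt_injective {A : Type u} [CommRing A] [HopfAlgebra k A] {v w : HopfQuot.Pt k A k}
    (h : AGFQuot23.ratPt v = AGFQuot23.ratPt w) : v = w := by
  have h' : Spec.map (CommRingCat.ofHom v.ofConv.toRingHom) = Spec.map (CommRingCat.ofHom w.ofConv.toRingHom) :=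
    congrArg CommaMorphism.left h
  exact WithConv.ext (AlgHom.coe_ringHom_injective (congrArg CommRingCat.Hom.hom (Spec.map_injective h')))

theorem toUnit_ratPt {A B : Type u} [CommRing A] [HopfAlgebra k A] [CommRing B] [HopfAlgebra k B]
    (w : HopfQuot.Pt k A k) :
    toUnit (HopfQuot.spec (k := k) B) ≫ AGFQuot23.ratPt w =
      HopfQuot.ptSpec (k := k) (A := A) (T := B) (DynLib.push (Algebra.ofId k B) w) := by
  refine Over.OverMorphism.ext ?_
  rw [Over.comp_left, show (toUnit (HopfQuot.spec (k := k) B)).left = (HopfQuot.spec (k := k) B).hom from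
    (Category.comp_id _).symm.trans (Over.w _)]
  show Spec.map (CommRingCat.ofHom (algebraMap k B)) ≫ Spec.map (CommRingCat.ofHom w.ofConv.toRingHom) = Spec.map _
  rw [← Spec.map_comp]
  rfl

/-- The centralizer of a torus in a connected affine group over an algebraically closed field is connected. -/
theorem connected_affine {G : Over (Spec (CommRingCat.of k))} [GrpObj G] [IsAffine G.left] [Smooth G.hom]
    [ConnectedSpace G.left] {T : Over (Spec (CommRingCat.of k))} [GrpObj T] (hT : Red.IsTorus T)
    (j : T ⟶ G) [IsMonHom j]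
    {C : Over (Spec (CommRingCat.of k))} [GrpObj C] {c : C ⟶ G} (hC : Red.IsCentralizerOf j c) :
    ConnectedSpace C.left := by
  haveI : QuasiCompact G.hom := (quasiCompact_iff_compactSpace G.hom).2 inferInstance
  obtain ⟨hsm, hcl⟩ := smooth_closed hT j hC
  haveI := hsm; haveI := hcl; haveI := hC.1; haveI := hC.2.1
  haveI : JacobsonSpace G.left := LocallyOfFiniteType.jacobsonSpace G.hom
  haveI : IsReduced G.left := AbSchLib.isReduced_of_smooth G.hom
  haveI : IrreducibleSpace G.left := SGA3cLib.irreducibleSpace_of_connected G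
  obtain ⟨A, _, _, e, _, _⟩ := HopfQuot.exists_spec (k := k) G
  haveI : IsIso e.left := inferInstanceAs (IsIso ((Over.forget _).map e))
  haveI : LocallyOfFiniteType (HopfQuot.spec (k := k) A).hom := by rw [← Over.w e]; infer_instance
  haveI : Algebra.FiniteType k A :=
    RingHom.finiteType_algebraMap.1 ((HasRingHomProperty.Spec_iff (P := @LocallyOfFiniteType)
      (φ := CommRingCat.ofHom (algebraMap k A))).1 ‹LocallyOfFiniteType (HopfQuot.spec (k := k) A).hom›)
  haveI : IsReduced (Spec (CommRingCat.of A)) := by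
    haveI hoi : IsOpenImmersion e.left := inferInstanceAs (IsOpenImmersion (asIso e.left).hom)
    exact @isReduced_of_isOpenImmersion _ _ e.left hoi ‹_›
  haveI : IsIntegral (Spec (CommRingCat.of A)) := by
    haveI : IrreducibleSpace (Spec (CommRingCat.of A)) :=
      (asIso e.left).inv.homeomorph.surjective.irreducibleSpace (asIso e.left).inv.continuous
    exact isIntegral_of_irreducibleSpace_of_isReduced _
  haveI : IsDomain A := (affine_isIntegral_iff (CommRingCat.of A)).1 inferInstance
  obtain ⟨N, _, r, ε, eT, _, _⟩ := HMTor29.MaxTorus.isFreeDiag_of_isTorus T hT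
  haveI : IsMonHom (CategoryTheory.inv e) := inferInstanceAs (IsMonHom (asIso e).inv)
  haveI : IsMonHom (eT ≫ j ≫ CategoryTheory.inv e) := inferInstance
  obtain ⟨θ, hθ⟩ := HopfQuot.exists_specHom (k := k) (eT ≫ j ≫ CategoryTheory.inv e)
  obtain ⟨E, _, _, π, hπ, hE, hiff⟩ := exists_centralizer ε θ
  let idp : DynLib.Pt k (MonoidAlgebra k N) (MonoidAlgebra k N) := toConv (AlgHom.id k (MonoidAlgebra k N))
  have hid : HopfQuot.ptSpec (k := k) (A := MonoidAlgebra k N) (T := MonoidAlgebra k N) idp = 𝟙 _ :=
    Over.OverMorphism.ext (Spec.map_id _)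
  have hθ' : HopfQuot.ptSpec (k := k) (DynLib.pull θ idp) = eT ≫ j ≫ CategoryTheory.inv e := by
    rw [← hθ, ← Category.id_comp (HopfQuot.specHom θ), ← hid, HopfQuot.ptSpec_comp]
    rfl
  -- rational points of the centralizer
  have hpts : ∀ g : 𝟙_ (Over (Spec (CommRingCat.of k))) ⟶ G,
      (∃ y : 𝟙_ (Over (Spec (CommRingCat.of k))) ⟶ HopfQuot.spec (k := k) E, y ≫ HopfQuot.specHom π ≫ e = g) ↔
      ∃ y : 𝟙_ (Over (Spec (CommRingCat.of k))) ⟶ C, y ≫ c = g := by
    intro g
    obtain ⟨w, hw⟩ := ratPt_surjective (g ≫ CategoryTheory.inv e)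
    have hg : g = AGFQuot23.ratPt w ≫ e := by rw [hw, Category.assoc, IsIso.inv_hom_id, Category.comp_id]
    have h1 : (∃ y : 𝟙_ (Over (Spec (CommRingCat.of k))) ⟶ HopfQuot.spec (k := k) E,
        y ≫ HopfQuot.specHom π ≫ e = g) ↔ ∃ g', DynLib.pull π g' = w := by
      constructor
      · rintro ⟨y, hy⟩
        obtain ⟨v, rfl⟩ := ratPt_surjective y
        rw [hg, ← Category.assoc, cancel_mono, AGFQuot23.ratPt_comp] at hy
        exact ⟨v, ratPt_injective hy⟩
      · rintro ⟨v, rfl⟩
        exact ⟨AGFQuot23.ratPt v, by rw [← Category.assoc, AGFQuot23.ratPt_comp, hg]; rfl⟩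
    rw [h1, hiff w, hC.2.2 _ g]
    have h2 : ∀ p q : DynLib.Pt k A (MonoidAlgebra k N), Commute p q ↔
        (HopfQuot.ptSpec (k := k) p ≫ e) * (HopfQuot.ptSpec (k := k) q ≫ e) =
          (HopfQuot.ptSpec (k := k) q ≫ e) * (HopfQuot.ptSpec (k := k) p ≫ e) := fun p q => by
      rw [← MonObj.mul_comp, ← MonObj.mul_comp, cancel_mono, ← map_mul, ← map_mul,
        (HopfQuot.ptSpec (k := k)).injective.eq_iff]
      exact Iff.rfl
    rw [h2, ← toUnit_ratPt, hθ', Category.assoc, ← hg]
    simp only [Category.assoc, IsIso.inv_hom_id, Category.comp_id]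
    constructor
    · intro h X' x t
      have h3 := congrArg (fun f => (t ≫ CategoryTheory.inv eT) ≫ f) h
      simp only [MonObj.comp_mul, Category.assoc, IsIso.inv_hom_id_assoc] at h3
      rwa [← Category.assoc (CategoryTheory.inv eT), ← Category.assoc t,
        toUnit_unique (t ≫ CategoryTheory.inv eT ≫ toUnit _) x] at h3
    · intro h
      exact h _ (toUnit _) eT
  -- closed sets with the same closed points
  let f : HopfQuot.spec (k := k) E ⟶ G := HopfQuot.specHom π ≫ e
  haveI : IsClosedImmersion (HopfQuot.specHom π).left := by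
    rw [HopfQuot.specHom_left]
    exact IsClosedImmersion.spec_of_surjective _ hπ
  haveI : IsClosedImmersion f.left := by
    show IsClosedImmersion (HopfQuot.specHom π ≫ e).left
    rw [Over.comp_left]
    infer_instance
  haveI : LocallyOfFiniteType (HopfQuot.spec (k := k) E).hom := by rw [← Over.w f]; infer_instance
  have hkey : Set.range c.left ∩ closedPoints G.left = Set.range f.left ∩ closedPoints G.left := by
    ext x
    simp only [Set.mem_inter_iff]
    refine and_congr_left fun hx => ?_
    obtain ⟨g, hg⟩ := AGFQuot23.exists_point_eq (Z := G) (S := ({x} : Set G.left))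
      (mem_closedPoints_iff.1 hx).isLocallyClosed (Set.singleton_nonempty x)
    rw [Set.mem_singleton_iff] at hg
    rw [← hg]
    constructor
    · intro h
      obtain ⟨y, hy⟩ := AGFQuot23.exists_point_of_mem c g h
      obtain ⟨y', hy'⟩ := (hpts g).2 ⟨y, hy⟩
      exact ⟨y'.left (IsLocalRing.closedPoint k), by rw [← hy']; rfl⟩
    · intro h
      obtain ⟨y, hy⟩ := AGFQuot23.exists_point_of_mem f g h
      obtain ⟨y', hy'⟩ := (hpts g).1 ⟨y, hy⟩
      exact ⟨y'.left (IsLocalRing.closedPoint k), by rw [← hy']; rfl⟩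
  have hrange : Set.range c.left = Set.range f.left := by
    rw [← closure_inter_closedPoints c.left.isClosedEmbedding.isClosed_range, hkey,
      closure_inter_closedPoints f.left.isClosedEmbedding.isClosed_range]
  haveI : IrreducibleSpace (HopfQuot.spec (k := k) E).left :=
    inferInstanceAs (IrreducibleSpace (PrimeSpectrum E))
  rw [connectedSpace_iff_univ]
  refine ⟨⟨(η[C]).left (IsLocalRing.closedPoint k), trivial⟩, ?_⟩
  rw [← c.left.isClosedEmbedding.isInducing.isPreconnected_image, Set.image_univ, hrange]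
  exact isPreconnected_range f.left.continuous

end Groth.Agent.CentConn12
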