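import Groth.Agent.CentConn12.Affine
import Groth.Agent.AGFQuot23.CellConj
import Groth.Agent.HopfLib.GITPoints

/-!
# The conjugates of the centralizer of a torus contain a nonempty open set
-/

set_option autoImplicit false
set_option backward.isDefEq.respectTransparency.types false
set_option maxHeartbeats 800000
set_option linter.style.haveILetI false

universe u

open LaurentPolynomial TensorProduct WithConv
open Groth.Agent.DynLib (Pt push pull conj pre tee cst)

noncomputable section

namespace Groth.Agent.CentConn12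

variable {k : Type u} [Field k] [IsAlgClosed k] {N : Type u} [CommGroup N] {A : Type u} [CommRing A] [HopfAlgebra k A]

omit [IsAlgClosed k] in
theorem push_const_self {R : Type u} [CommRing R] [Algebra k R] (φ : R →ₐ[k] k) (t : Pt k A k) :
    push φ (push (Algebra.ofId k R) t) = t :=
  WithConv.ext (AlgHom.ext fun a => φ.commutes (t.ofConv a))

/-- A function vanishing at all rational points of a variety is zero. -/
theorem eq_zero_of_points {R : Type u} [CommRing R] [Algebra k R] [Algebra.FiniteType k R] [IsDomain R] {a : R}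
    (h : ∀ φ : R →ₐ[k] k, φ a = 0) : a = 0 := by
  haveI : IsJacobsonRing R := isJacobsonRing_of_finiteType (A := k)
  have h1 : a ∈ (⊥ : Ideal R).jacobson := Ideal.mem_sInf.2 fun {J} hJ => by
    haveI := hJ.2
    obtain ⟨φ, hφ⟩ := AGFQuot23.exists_point_of_isMaximal (k := k) J
    rw [← hφ]
    exact h φ
  rwa [IsJacobsonRing.out (R := R) inferInstance (Ideal.isPrime_bot).isRadical, Ideal.mem_bot] at h1

/-- Conjugates of the points fixed by a list of cocharacters are dense. -/
theorem conj_dense_list [Algebra.FiniteType k A] [IsDomain A] (θ : A →ₐc[k] MonoidAlgebra k N)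
    (l : List (MonoidAlgebra k N →ₐc[k] k[T;T⁻¹])) (a : A)
    (ha : ∀ t y : Pt k A k, (∀ μ ∈ l, conj k (μ.comp θ) y = push (cst k k) y) → (t * y * t⁻¹).ofConv a = 0) :
    a = 0 := by
  induction l generalizing A with
  | nil =>
    refine eq_zero_of_points (k := k) fun φ => ?_
    simpa using ha 1 (toConv φ) (fun μ hμ => absurd hμ List.not_mem_nil)
  | cons μ l ih =>
    let lam := μ.comp θ
    let lamNeg := (DynLib.invertHom k).comp lam
    let Jp := DynLib.limIdeal lam
    let Jp' := DynLib.limIdeal lamNeg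
    let Z := Jp ⊔ Jp'
    haveI : Jp.IsHopfIdeal k := DynLib.isHopfIdeal_limIdeal lam
    haveI : Jp'.IsHopfIdeal k := DynLib.isHopfIdeal_limIdeal lamNeg
    have hZ₀ := S3309.result k A lam lamNeg (DynLib.invertHom_comp_eq lam) Jp Jp'
      (fun R _ _ g => (DynLib.kills_limIdeal_iff lam g).trans (DynLib.limExists_iff lam g).symm)
      (fun R _ _ g => (DynLib.kills_limIdeal_iff lamNeg g).trans (DynLib.limExists_iff lamNeg g).symm)
    have hZ : ∀ (R : Type u) [CommRing R] [Algebra k R] (g : A →ₐ[k] R),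
        (∀ a ∈ Z, g a = 0) ↔ conj R lam (toConv g) = push (cst k R) (toConv g) := fun R _ _ g => by
      refine (hZ₀ R g).trans ?_
      beta_reduce
      rw [DynLib.conjOrbit_eq]
      exact ⟨fun h => WithConv.ext h, fun h => congrArg WithConv.ofConv h⟩
    haveI : Z.IsHopfIdeal k := DynLib.isHopfIdeal_of_subgroup Z
      (fun R _ _ => MonoidHom.eqLocus (conj R lam) (push (cst k R))) hZ
    haveI : IsDomain (A ⧸ Z) := AlgGrpLib.CentreSolvable.isDomain_centralizer lam
    let π₁ : A →ₐc[k] A ⧸ Z := Bialgebra.Quotient.mkBialgHom (R := k) Z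
    have hπ₁ : Function.Surjective π₁ := Ideal.Quotient.mk_surjective
    haveI : Algebra.FiniteType k (A ⧸ Z) := Algebra.FiniteType.of_surjective (π₁ : A →ₐ[k] A ⧸ Z) hπ₁
    have hθ : ∀ a ∈ Z, (θ : A →ₐ[k] MonoidAlgebra k N) a = 0 := by
      refine (hZ _ _).2 ?_
      have e : toConv (θ : A →ₐ[k] MonoidAlgebra k N) = pull θ (toConv (AlgHom.id k (MonoidAlgebra k N))) := rfl
      rw [e, DynLib.conj_pull, DynLib.conj_apply, pt_comm (pre μ _), mul_inv_cancel_right]
      rfl
    let θ₀ : A ⧸ Z →ₐ[k] MonoidAlgebra k N := Ideal.Quotient.liftₐ Z (θ : A →ₐ[k] MonoidAlgebra k N) hθ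
    let θ' : A ⧸ Z →ₐc[k] MonoidAlgebra k N := BialgHom.ofAlgHom θ₀
      (AlgHom.ext fun x => by
        obtain ⟨a, rfl⟩ := hπ₁ x
        exact (CoalgHomClass.counit_comp_apply θ a).trans (CoalgHomClass.counit_comp_apply π₁ a).symm)
      (AlgHom.ext fun x => by
        obtain ⟨a, rfl⟩ := hπ₁ x
        show Algebra.TensorProduct.map θ₀ θ₀ (Coalgebra.comul (π₁ a)) = Coalgebra.comul (θ a)
        rw [← CoalgHomClass.map_comp_comul_apply π₁ a, ← CoalgHomClass.map_comp_comul_apply θ a]
        induction (Coalgebra.comul (R := k) a) using TensorProduct.induction_on with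
        | zero => simp
        | add p q hp hq => simp only [map_add, hp, hq]
        | tmul p q => simp; rfl)
    have htr : ∀ (μ' : MonoidAlgebra k N →ₐc[k] k[T;T⁻¹]), μ'.comp θ = (μ'.comp θ').comp π₁ := fun μ' =>
      BialgHom.ext fun a => rfl
    obtain ⟨R, _, _, _, _, Ψ, hΨ, hval⟩ := AGFQuot23.exists_dominant_conj lam
    refine hΨ ((eq_zero_of_points (k := k) (R := R) fun φ => ?_).trans (map_zero Ψ).symm)
    obtain ⟨t, g, hg, e⟩ := hval φ
    show (toConv (φ.comp Ψ)).ofConv a = 0
    rw [e]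
    let Γ : Pt k A A := push (Algebra.ofId k A) t * toConv (AlgHom.id k A) * (push (Algebra.ofId k A) t)⁻¹
    have hΓ : ∀ z : Pt k A k, z.ofConv (Γ.ofConv a) = (t * z * t⁻¹).ofConv a := fun z => by
      show (push z.ofConv Γ).ofConv a = _
      simp only [Γ, map_mul, map_inv, push_const_self]
      rfl
    rw [← hΓ g]
    have hgZ : ∀ b ∈ Z, g.ofConv b = 0 := (hZ k g.ofConv).2 hg
    have h0 : π₁ (Γ.ofConv a) = 0 := ih (A := A ⧸ Z) θ' _ fun t' y hy => by
      have hfix : ∀ μ' ∈ μ :: l, conj k (μ'.comp θ) (pull π₁ y) = push (cst k k) (pull π₁ y) := by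
        intro μ' hμ'
        rcases List.mem_cons.1 hμ' with rfl | hμ'
        · refine (hZ k (pull π₁ y).ofConv).1 fun b hb => ?_
          show y.ofConv (π₁ b) = 0
          rw [show π₁ b = 0 from Ideal.Quotient.eq_zero_iff_mem.2 hb, map_zero]
        · rw [htr, DynLib.conj_pull, hy μ' hμ']
          rfl
      show (pull π₁ (t' * y * t'⁻¹)).ofConv (Γ.ofConv a) = 0
      rw [hΓ, map_mul, map_mul, map_inv]
      have h := ha (t * pull π₁ t') (pull π₁ y) hfix
      rw [_root_.mul_inv_rev] at h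
      simpa only [_root_.mul_assoc] using h
    show (Ideal.Quotient.liftₐ Z g.ofConv hgZ) (π₁ (Γ.ofConv a)) = 0
    rw [h0, map_zero]

/-- Conjugates of the points commuting with a split torus contain a nonempty open set. -/
theorem exists_open_conj [Algebra.FiniteType k A] [IsDomain A] {r : ℕ} (ε : N ≃* Multiplicative (Fin r → ℤ))
    (θ : A →ₐc[k] MonoidAlgebra k N) :
    ∃ D : Set (PrimeSpectrum A), IsOpen D ∧ D.Nonempty ∧ ∀ x : Pt k A k,
      (⟨RingHom.ker x.ofConv, RingHom.ker_isPrime _⟩ : PrimeSpectrum A) ∈ D →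
      ∃ t y : Pt k A k, x = t * y * t⁻¹ ∧
        Commute (push (Algebra.ofId k (MonoidAlgebra k N)) y) (pull θ (toConv (AlgHom.id k (MonoidAlgebra k N)))) := by
  obtain ⟨χ, n₀, hu⟩ := id_eq_prod (k := k) ε
  obtain ⟨E, _, _, π, hπ, hE, hiff⟩ := exists_centralizer_list θ (List.ofFn fun j => cochar (k := k) (χ j))
  haveI : Algebra.FiniteType k E := Algebra.FiniteType.of_surjective (π : A →ₐ[k] E) hπ
  let γ : A →ₐ[k] A ⊗[k] E := Algebra.TensorProduct.includeLeft
  let Γ : Pt k A (A ⊗[k] E) := toConv γ *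
    pull π (toConv (Algebra.TensorProduct.includeRight : E →ₐ[k] A ⊗[k] E)) * (toConv γ)⁻¹
  have hΓ : ∀ φ : A ⊗[k] E →ₐ[k] k, toConv (φ.comp Γ.ofConv) =
      toConv (φ.comp γ) * pull π (toConv (φ.comp Algebra.TensorProduct.includeRight)) * (toConv (φ.comp γ))⁻¹ := fun φ => by
    show push φ Γ = _
    simp only [Γ, map_mul, map_inv]
    rfl
  have hinj : Function.Injective Γ.ofConv := by
    rw [injective_iff_map_eq_zero]
    intro a ha
    refine conj_dense_list θ (List.ofFn fun j => cochar (k := k) (χ j)) a fun t y hy => ?_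
    obtain ⟨y', rfl⟩ := (hiff y).2 hy
    let φ : A ⊗[k] E →ₐ[k] k := Algebra.TensorProduct.lift t.ofConv y'.ofConv fun _ _ => .all _ _
    have h1 : φ.comp γ = t.ofConv := AlgHom.ext fun z => by
      show φ (z ⊗ₜ[k] 1) = _
      simp [φ]
    have h2 : φ.comp Algebra.TensorProduct.includeRight = y'.ofConv := AlgHom.ext fun z => by
      show φ (1 ⊗ₜ[k] z) = _
      simp [φ]
    have h3 := congrArg (fun p : Pt k A k => p.ofConv a) (hΓ φ)
    rw [h1, h2] at h3
    refine h3.symm.trans ?_
    show φ (Γ.ofConv a) = 0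
    rw [ha, map_zero]
  haveI : IsNoetherianRing A := Algebra.FiniteType.isNoetherianRing k A
  haveI : Algebra.FiniteType k (A ⊗[k] E) := Algebra.FiniteType.trans (S := A) inferInstance inferInstance
  have hfp : Γ.ofConv.toRingHom.FinitePresentation := by
    refine RingHom.FinitePresentation.of_finiteType.1 ?_
    exact RingHom.FiniteType.of_comp_finiteType (f := algebraMap k A) (g := Γ.ofConv.toRingHom) (by
      rw [show Γ.ofConv.toRingHom.comp (algebraMap k A) = algebraMap k (A ⊗[k] E) from Γ.ofConv.comp_algebraMap]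
      exact RingHom.finiteType_algebraMap.2 inferInstance)
  obtain ⟨D, hDo, hDne, hD⟩ := HopfLib.exists_open_subset_range_comap Γ.ofConv.toRingHom hfp hinj
  refine ⟨D, hDo, hDne, fun x hx => ?_⟩
  obtain ⟨Q, hQ⟩ := hD hx
  have hQ' : Q.asIdeal.comap Γ.ofConv.toRingHom = RingHom.ker x.ofConv := congrArg PrimeSpectrum.asIdeal hQ
  obtain ⟨M, hM, hQM⟩ := Ideal.exists_le_maximal _ Q.isPrime.ne_top
  haveI := hM
  obtain ⟨φ, hφ⟩ := AGFQuot23.exists_point_of_isMaximal (k := k) M
  have hx' : x = toConv (φ.comp Γ.ofConv) := WithConv.ext (AlgHom.ext fun a => by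
    have h1 : a - algebraMap k A (x.ofConv a) ∈ RingHom.ker x.ofConv := by
      rw [RingHom.mem_ker, map_sub, AlgHom.commutes]
      exact sub_self _
    rw [← hQ'] at h1
    have h2 : φ (Γ.ofConv (a - algebraMap k A (x.ofConv a))) = 0 := by
      rw [← RingHom.mem_ker, hφ]
      exact hQM h1
    rw [map_sub, map_sub, AlgHom.commutes, AlgHom.commutes, sub_eq_zero] at h2
    exact h2.symm)
  refine ⟨toConv (φ.comp γ), pull π (toConv (φ.comp Algebra.TensorProduct.includeRight)), hx'.trans (hΓ φ), ?_⟩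
  have hfix := (hiff _).1 ⟨toConv (φ.comp Algebra.TensorProduct.includeRight), rfl⟩
  rw [hu, map_list_prod, List.map_ofFn]
  refine Commute.list_prod_right _ _ fun w hw => ?_
  obtain ⟨j, rfl⟩ := List.mem_ofFn.1 hw
  have hj := hfix _ (List.mem_ofFn.2 ⟨j, rfl⟩)
  rw [DynLib.conj_apply, mul_inv_eq_iff_eq_mul] at hj
  have h2 := congrArg (push (powPt (n₀ j))) hj.symm
  rw [map_mul, map_mul, DynLib.push_push, DynLib.push_pre, tee_self, AlgHom.comp_id,
    Subsingleton.elim ((powPt (k := k) (n₀ j)).comp (cst k k)) (Algebra.ofId k (MonoidAlgebra k N))] at h2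
  exact h2

end Groth.Agent.CentConn12
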