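import Groth.Agent.CentConn12.ConjDense

/-!
# Conjugates of the centralizer of a torus: scheme form
-/

set_option autoImplicit false
set_option backward.isDefEq.respectTransparency.types false
set_option maxHeartbeats 800000
set_option linter.style.haveILetI false

universe u

open CategoryTheory CategoryTheory.Limits MonoidalCategory CartesianMonoidalCategory MonObj GrpObj AlgebraicGeometry

noncomputable section

namespace Groth.Agent.CentConn12

/-- Conjugates of the centralizer of a torus contain a nonempty open set. -/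
theorem exists_open_conj_centralizer {k : Type u} [Field k] [IsAlgClosed k]
    {G : Over (Spec (CommRingCat.of k))} [GrpObj G] [IsAffine G.left] [Smooth G.hom] [ConnectedSpace G.left]
    {T : Over (Spec (CommRingCat.of k))} [GrpObj T] (hT : Red.IsTorus T) (j : T ⟶ G) [IsMonHom j]
    {C : Over (Spec (CommRingCat.of k))} [GrpObj C] {c : C ⟶ G} (hc : Red.IsCentralizerOf j c) :
    ∃ U : G.left.Opens, (U : Set ↥G.left).Nonempty ∧
      ∀ x : 𝟙_ (Over (Spec (CommRingCat.of k))) ⟶ G, x.left.base (IsLocalRing.closedPoint k) ∈ U →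
        ∃ (g : 𝟙_ (Over (Spec (CommRingCat.of k))) ⟶ G) (y : 𝟙_ (Over (Spec (CommRingCat.of k))) ⟶ C), g * (y ≫ c) * g⁻¹ = x := by
  haveI : QuasiCompact G.hom := (quasiCompact_iff_compactSpace G.hom).2 inferInstance
  haveI : IsReduced G.left := Groth.Agent.AbSchLib.isReduced_of_smooth G.hom
  haveI : IrreducibleSpace G.left := Groth.Agent.SGA3cLib.irreducibleSpace_of_connected G
  obtain ⟨A, _, _, e, _, _⟩ := Groth.Agent.HopfQuot.exists_spec (k := k) G
  haveI : IsIso e.left := inferInstanceAs (IsIso ((Over.forget _).map e))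
  haveI : LocallyOfFiniteType (Groth.Agent.HopfQuot.spec (k := k) A).hom := by rw [← Over.w e]; infer_instance
  haveI : Algebra.FiniteType k A :=
    RingHom.finiteType_algebraMap.1 ((HasRingHomProperty.Spec_iff (P := @LocallyOfFiniteType)
      (φ := CommRingCat.ofHom (algebraMap k A))).1 ‹LocallyOfFiniteType (Groth.Agent.HopfQuot.spec (k := k) A).hom›)
  haveI : IsReduced (Spec (CommRingCat.of A)) := by
    haveI hoi : IsOpenImmersion e.left := inferInstanceAs (IsOpenImmersion (asIso e.left).hom)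
    exact @isReduced_of_isOpenImmersion _ _ e.left hoi ‹_›
  haveI : IsIntegral (Spec (CommRingCat.of A)) := by
    haveI : IrreducibleSpace (Spec (CommRingCat.of A)) :=
      (asIso e.left).inv.homeomorph.surjective.irreducibleSpace (asIso e.left).inv.continuous
    exact isIntegral_of_irreducibleSpace_of_isReduced _
  haveI : IsDomain A := (affine_isIntegral_iff (CommRingCat.of A)).1 inferInstance
  obtain ⟨N, _, r, ε, eT, _, _⟩ := Groth.Agent.HMTor29.MaxTorus.isFreeDiag_of_isTorus T hT
  haveI : IsMonHom (CategoryTheory.inv e) := inferInstanceAs (IsMonHom (asIso e).inv)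
  haveI : IsMonHom (eT ≫ j ≫ CategoryTheory.inv e) := inferInstance
  obtain ⟨θ, hθ⟩ := Groth.Agent.HopfQuot.exists_specHom (k := k) (eT ≫ j ≫ CategoryTheory.inv e)
  obtain ⟨D, hDo, hDne, hD⟩ := Groth.Agent.CentConn12.exists_open_conj ε θ
  have hU : IsOpen (e.left '' D) := e.left.homeomorph.isOpenMap D hDo
  refine ⟨⟨e.left '' D, hU⟩, hDne.image _, fun x hx => ?_⟩
  obtain ⟨w, hw⟩ := Groth.Agent.CentConn12.ratPt_surjective (x ≫ CategoryTheory.inv e)
  have hxw : x = Groth.Agent.AGFQuot23.ratPt w ≫ e := by rw [hw, Category.assoc, IsIso.inv_hom_id, Category.comp_id]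
  obtain ⟨Q, hQD, hQ⟩ := hx
  have hQw : Q = (Groth.Agent.AGFQuot23.ratPt w).left (IsLocalRing.closedPoint k) := by
    refine e.left.homeomorph.injective ?_
    show e.left Q = e.left _
    rw [hQ, hxw]
    rfl
  obtain ⟨t, y, hty, hcomm⟩ := hD w (by
    suffices hh : (⟨RingHom.ker w.ofConv, RingHom.ker_isPrime _⟩ : PrimeSpectrum A) = Q by rw [hh]; exact hQD
    rw [hQw]
    refine PrimeSpectrum.ext ?_
    show RingHom.ker w.ofConv = (IsLocalRing.maximalIdeal k).comap w.ofConv.toRingHom
    rw [IsLocalRing.maximalIdeal_eq_bot]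
    rfl)
  have hid : Groth.Agent.HopfQuot.ptSpec (k := k) (A := MonoidAlgebra k N) (T := MonoidAlgebra k N)
      (WithConv.toConv (AlgHom.id k (MonoidAlgebra k N))) = 𝟙 _ :=
    Over.OverMorphism.ext (Spec.map_id _)
  have hθ' : Groth.Agent.HopfQuot.ptSpec (k := k) (Groth.Agent.DynLib.pull θ
      (WithConv.toConv (AlgHom.id k (MonoidAlgebra k N)))) = eT ≫ j ≫ CategoryTheory.inv e := by
    rw [← hθ, ← Category.id_comp (Groth.Agent.HopfQuot.specHom θ), ← hid, Groth.Agent.HopfQuot.ptSpec_comp]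
    rfl
  obtain ⟨z, hz⟩ := (hc.2.2 _ (Groth.Agent.AGFQuot23.ratPt y ≫ e)).2 fun X' v h => by
    have h1 := congrArg (fun f => Groth.Agent.HopfQuot.ptSpec (k := k) f ≫ e) hcomm.eq
    simp only [map_mul, MonObj.mul_comp, ← Groth.Agent.CentConn12.toUnit_ratPt, hθ', Category.assoc,
      IsIso.inv_hom_id, Category.comp_id] at h1
    have h3 := congrArg (fun f => (h ≫ CategoryTheory.inv eT) ≫ f) h1
    simp only [MonObj.comp_mul, Category.assoc, IsIso.inv_hom_id_assoc] at h3
    rwa [← Category.assoc (CategoryTheory.inv eT), ← Category.assoc h,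
      toUnit_unique (h ≫ CategoryTheory.inv eT ≫ toUnit _) v] at h3
  refine ⟨Groth.Agent.AGFQuot23.ratPt t ≫ e, z, ?_⟩
  have hinv : Groth.Agent.AGFQuot23.ratPt t⁻¹ = (Groth.Agent.AGFQuot23.ratPt t)⁻¹ :=
    eq_inv_of_mul_eq_one_left (by rw [← Groth.Agent.AGFQuot23.ratPt_mul, inv_mul_cancel, Groth.Agent.AGFQuot23.ratPt_one])
  rw [hz, hxw, hty, Groth.Agent.AGFQuot23.ratPt_mul, Groth.Agent.AGFQuot23.ratPt_mul, hinv, MonObj.mul_comp,
    MonObj.mul_comp, GrpObj.inv_comp]

end Groth.Agent.CentConn12
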