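import Groth.Agent.AlgGrpLib.CentreSolvable

/-!
# Centralizers of split tori in connected affine groups are connected
-/

set_option autoImplicit false
set_option backward.isDefEq.respectTransparency.types false
set_option maxHeartbeats 800000
set_option linter.style.haveILetI false

universe u

open LaurentPolynomial TensorProduct WithConv
open Groth.Agent.DynLib (Pt push pull conj pre tee cst)

noncomputable section

namespace Groth.Agent.CentConn12

variable {k : Type u} [Field k] {N : Type u} [CommGroup N]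

/-- Evaluation of points of a diagonalizable group at a character. -/
def evS {R : Type u} [CommRing R] [Algebra k R] (n : N) : Pt k (MonoidAlgebra k N) R →* R where
  toFun x := x.ofConv (MonoidAlgebra.single n 1)
  map_one' := by simp [AlgHom.convOne_apply]
  map_mul' x y := by
    show (x * y) (MonoidAlgebra.single n 1) = _
    rw [AlgHom.convMul_apply]
    simp

theorem pt_ext {R : Type u} [CommRing R] [Algebra k R] {x y : Pt k (MonoidAlgebra k N) R}
    (h : ∀ n, evS n x = evS n y) : x = y :=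
  WithConv.ext (MonoidAlgebra.algHom_ext h (Subsingleton.elim _ _))

theorem pt_comm {R : Type u} [CommRing R] [Algebra k R] (x y : Pt k (MonoidAlgebra k N) R) : x * y = y * x :=
  pt_ext fun n => by rw [map_mul, map_mul, mul_comm]

/-- Monomials, multiplicatively. -/
def tHom : Multiplicative ℤ →* k[T;T⁻¹] where
  toFun m := T m.toAdd
  map_one' := T_zero
  map_mul' a b := T_add _ _

/-- The cocharacter of a linear form on the characters. -/
def cochar (χ : N →* Multiplicative ℤ) : MonoidAlgebra k N →ₐc[k] k[T;T⁻¹] :=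
  BialgHom.ofAlgHom (MonoidAlgebra.lift k k[T;T⁻¹] N (tHom.comp χ))
    (MonoidAlgebra.algHom_ext (fun n => by
      show Coalgebra.counit (R := k) (MonoidAlgebra.lift k k[T;T⁻¹] N (tHom.comp χ) (MonoidAlgebra.single n 1)) =
        Coalgebra.counit (R := k) (MonoidAlgebra.single n (1 : k))
      rw [MonoidAlgebra.lift_single, one_smul]
      show Coalgebra.counit (R := k) (T _ : k[T;T⁻¹]) = _
      rw [LaurentPolynomial.counit_T, MonoidAlgebra.counit_single]
      simp) (Subsingleton.elim _ _))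
    (MonoidAlgebra.algHom_ext (fun n => by
      show Algebra.TensorProduct.map _ _ (Coalgebra.comul (R := k) (MonoidAlgebra.single n (1 : k))) =
        Coalgebra.comul (R := k) (MonoidAlgebra.lift k k[T;T⁻¹] N (tHom.comp χ) (MonoidAlgebra.single n 1))
      rw [MonoidAlgebra.lift_single, one_smul]
      show _ = Coalgebra.comul (R := k) (T _ : k[T;T⁻¹])
      rw [LaurentPolynomial.comul_T, MonoidAlgebra.comul_single]
      simp [tHom]) (Subsingleton.elim _ _))

theorem cochar_single (χ : N →* Multiplicative ℤ) (n : N) :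
    cochar (k := k) χ (MonoidAlgebra.single n 1) = T (χ n).toAdd := by
  show MonoidAlgebra.lift k k[T;T⁻¹] N (tHom.comp χ) (MonoidAlgebra.single n 1) = _
  simp [tHom]

/-- The powers of a character. -/
def powPt (n₀ : N) : k[T;T⁻¹] →ₐ[k] MonoidAlgebra k N :=
  AddMonoidAlgebra.lift k (MonoidAlgebra k N) ℤ ((MonoidAlgebra.of k N).comp (zpowersHom N n₀))

theorem powPt_T (n₀ : N) (m : ℤ) : powPt (k := k) n₀ (T m) = MonoidAlgebra.single (n₀ ^ m) 1 := by
  show AddMonoidAlgebra.lift k (MonoidAlgebra k N) ℤ _ (AddMonoidAlgebra.single m (1 : k)) = _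
  rw [AddMonoidAlgebra.lift_single, one_smul]
  rfl

variable {A : Type u} [CommRing A] [HopfAlgebra k A]

theorem tee_self : tee k k = AlgHom.id k k[T;T⁻¹] := DynLib.Lext' (by simp)

variable [IsAlgClosed k]

theorem exists_centralizer_list [Algebra.FiniteType k A] [IsDomain A] (θ : A →ₐc[k] MonoidAlgebra k N)
    (l : List (MonoidAlgebra k N →ₐc[k] k[T;T⁻¹])) :
    ∃ (E : Type u) (_ : CommRing E) (_ : HopfAlgebra k E) (π : A →ₐc[k] E), Function.Surjective π ∧ IsDomain E ∧
      ∀ g : Pt k A k, (∃ g', pull π g' = g) ↔ ∀ μ ∈ l, conj k (μ.comp θ) g = push (cst k k) g := by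
  induction l generalizing A with
  | nil =>
    exact ⟨A, inferInstance, inferInstance, BialgHom.id k A, Function.surjective_id, inferInstance,
      fun g => ⟨fun _ μ hμ => absurd hμ List.not_mem_nil, fun _ => ⟨g, WithConv.ext (AlgHom.ext fun _ => rfl)⟩⟩⟩
  | cons μ l ih =>
    let lam := μ.comp θ
    let lamNeg := (DynLib.invertHom k).comp lam
    let Jp := DynLib.limIdeal lam
    let Jp' := DynLib.limIdeal lamNeg
    let Z := Jp ⊔ Jp'
    haveI : Jp.IsHopfIdeal k := DynLib.isHopfIdeal_limIdeal lam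
    haveI : Jp'.IsHopfIdeal k := DynLib.isHopfIdeal_limIdeal lamNeg
    have hZ₀ := S3309.result k A lam lamNeg (DynLib.invertHom_comp_eq lam) Jp Jp'
      (fun R _ _ g => (DynLib.kills_limIdeal_iff lam g).trans (DynLib.limExists_iff lam g).symm)
      (fun R _ _ g => (DynLib.kills_limIdeal_iff lamNeg g).trans (DynLib.limExists_iff lamNeg g).symm)
    have hZ : ∀ (R : Type u) [CommRing R] [Algebra k R] (g : A →ₐ[k] R),
        (∀ a ∈ Z, g a = 0) ↔ conj R lam (toConv g) = push (cst k R) (toConv g) := fun R _ _ g => by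
      refine (hZ₀ R g).trans ?_
      beta_reduce
      rw [DynLib.conjOrbit_eq]
      exact ⟨fun h => WithConv.ext h, fun h => congrArg WithConv.ofConv h⟩
    haveI : Z.IsHopfIdeal k := DynLib.isHopfIdeal_of_subgroup Z
      (fun R _ _ => MonoidHom.eqLocus (conj R lam) (push (cst k R))) hZ
    haveI : IsDomain (A ⧸ Z) := AlgGrpLib.CentreSolvable.isDomain_centralizer lam
    let π₁ : A →ₐc[k] A ⧸ Z := Bialgebra.Quotient.mkBialgHom (R := k) Z
    have hπ₁ : Function.Surjective π₁ := Ideal.Quotient.mk_surjective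
    haveI : Algebra.FiniteType k (A ⧸ Z) := Algebra.FiniteType.of_surjective (π₁ : A →ₐ[k] A ⧸ Z) hπ₁
    have hθ : ∀ a ∈ Z, (θ : A →ₐ[k] MonoidAlgebra k N) a = 0 := by
      refine (hZ _ _).2 ?_
      have e : toConv (θ : A →ₐ[k] MonoidAlgebra k N) = pull θ (toConv (AlgHom.id k (MonoidAlgebra k N))) := rfl
      rw [e, DynLib.conj_pull, DynLib.conj_apply, pt_comm (pre μ _), mul_inv_cancel_right]
      rfl
    let θ₀ : A ⧸ Z →ₐ[k] MonoidAlgebra k N := Ideal.Quotient.liftₐ Z (θ : A →ₐ[k] MonoidAlgebra k N) hθ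
    let θ' : A ⧸ Z →ₐc[k] MonoidAlgebra k N := BialgHom.ofAlgHom θ₀
      (AlgHom.ext fun x => by
        obtain ⟨a, rfl⟩ := hπ₁ x
        exact (CoalgHomClass.counit_comp_apply θ a).trans (CoalgHomClass.counit_comp_apply π₁ a).symm)
      (AlgHom.ext fun x => by
        obtain ⟨a, rfl⟩ := hπ₁ x
        show Algebra.TensorProduct.map θ₀ θ₀ (Coalgebra.comul (π₁ a)) = Coalgebra.comul (θ a)
        rw [← CoalgHomClass.map_comp_comul_apply π₁ a, ← CoalgHomClass.map_comp_comul_apply θ a]
        induction (Coalgebra.comul (R := k) a) using TensorProduct.induction_on with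
        | zero => simp
        | add p q hp hq => simp only [map_add, hp, hq]
        | tmul p q => simp; rfl)
    obtain ⟨E, _, _, π₂, hπ₂, hE, hiff⟩ := ih (A := A ⧸ Z) θ'
    have htr : ∀ (μ' : MonoidAlgebra k N →ₐc[k] k[T;T⁻¹]), μ'.comp θ = (μ'.comp θ').comp π₁ := fun μ' =>
      BialgHom.ext fun a => rfl
    refine ⟨E, inferInstance, inferInstance, π₂.comp π₁, hπ₂.comp hπ₁, hE, fun g => ⟨?_, fun h => ?_⟩⟩
    · rintro ⟨g', rfl⟩ μ' hμ'
      rcases List.mem_cons.1 hμ' with rfl | hμ'
      · refine (hZ k (pull (π₂.comp π₁) g').ofConv).1 fun a ha => ?_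
        show g'.ofConv (π₂ (π₁ a)) = 0
        rw [show π₁ a = 0 from Ideal.Quotient.eq_zero_iff_mem.2 ha, map_zero, map_zero]
      · show conj k (μ'.comp θ) (pull π₁ (pull π₂ g')) = push (cst k k) (pull π₁ (pull π₂ g'))
        rw [htr, DynLib.conj_pull, (hiff _).1 ⟨g', rfl⟩ μ' hμ']
        rfl
    · have hgZ : ∀ a ∈ Z, g.ofConv a = 0 := (hZ k g.ofConv).2 (h μ List.mem_cons_self)
      let g₁ : Pt k (A ⧸ Z) k := toConv (Ideal.Quotient.liftₐ Z g.ofConv hgZ)
      have hg₁ : pull π₁ g₁ = g := WithConv.ext (AlgHom.ext fun a => rfl)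
      obtain ⟨g', hg'⟩ := (hiff g₁).2 fun μ' hμ' => by
        refine DynLib.pull_injective π₁ hπ₁ ?_
        rw [← DynLib.conj_pull, ← htr, hg₁, h μ' (List.mem_cons_of_mem _ hμ')]
        exact congrArg (push (cst k k)) hg₁.symm
      exact ⟨g', by rw [← hg₁, ← hg']; rfl⟩

omit [IsAlgClosed k] in
/-- The universal point of a split torus is a product of values of cocharacters. -/
theorem id_eq_prod {r : ℕ} (ε : N ≃* Multiplicative (Fin r → ℤ)) :
    ∃ (χ : Fin r → N →* Multiplicative ℤ) (n₀ : Fin r → N),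
      toConv (AlgHom.id k (MonoidAlgebra k N)) = (List.ofFn fun j => pre (cochar (k := k) (χ j)) (powPt (n₀ j))).prod := by
  classical
  let χ : Fin r → N →* Multiplicative ℤ := fun j =>
    (AddMonoidHom.toMultiplicative (Pi.evalAddMonoidHom (fun _ : Fin r => ℤ) j)).comp ε.toMonoidHom
  let n₀ : Fin r → N := fun j => ε.symm (Multiplicative.ofAdd (Pi.single j 1))
  refine ⟨χ, n₀, pt_ext fun n => ?_⟩
  rw [map_list_prod, List.map_ofFn, List.prod_ofFn]
  have h : ∀ j, evS n (pre (cochar (k := k) (χ j)) (powPt (n₀ j))) =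
      MonoidAlgebra.of k N (n₀ j ^ (χ j n).toAdd) := fun j => by
    show powPt (n₀ j) (cochar (χ j) (MonoidAlgebra.single n 1)) = _
    rw [cochar_single, powPt_T]
    rfl
  simp only [Function.comp_apply, h, ← map_prod]
  show MonoidAlgebra.single n 1 = MonoidAlgebra.single _ 1
  congr 1
  refine ε.injective ?_
  rw [map_prod]
  simp only [map_zpow, n₀, MulEquiv.apply_symm_apply]
  refine Multiplicative.toAdd.injective (funext fun i => ?_)
  simp [toAdd_prod, χ, Finset.sum_apply, Pi.single_apply]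

/-- In a connected affine group the rational points commuting with a split torus form a connected subgroup. -/
theorem exists_centralizer [Algebra.FiniteType k A] [IsDomain A] {r : ℕ} (ε : N ≃* Multiplicative (Fin r → ℤ))
    (θ : A →ₐc[k] MonoidAlgebra k N) :
    ∃ (E : Type u) (_ : CommRing E) (_ : HopfAlgebra k E) (π : A →ₐc[k] E), Function.Surjective π ∧ IsDomain E ∧
      ∀ g : Pt k A k, (∃ g', pull π g' = g) ↔
        Commute (push (Algebra.ofId k (MonoidAlgebra k N)) g) (pull θ (toConv (AlgHom.id k (MonoidAlgebra k N)))) := by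
  obtain ⟨χ, n₀, hu⟩ := id_eq_prod (k := k) ε
  obtain ⟨E, _, _, π, hπ, hE, hiff⟩ := exists_centralizer_list θ (List.ofFn fun j => cochar (k := k) (χ j))
  refine ⟨E, inferInstance, inferInstance, π, hπ, hE, fun g => (hiff g).trans ⟨fun h => ?_, fun h μ hμ => ?_⟩⟩
  · rw [hu, map_list_prod, List.map_ofFn]
    refine Commute.list_prod_right _ _ fun x hx => ?_
    obtain ⟨j, rfl⟩ := List.mem_ofFn.1 hx
    have hj := h _ (List.mem_ofFn.2 ⟨j, rfl⟩)
    rw [DynLib.conj_apply, mul_inv_eq_iff_eq_mul] at hj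
    have h2 := congrArg (push (powPt (n₀ j))) hj.symm
    rw [map_mul, map_mul, DynLib.push_push, DynLib.push_pre, tee_self, AlgHom.comp_id,
      Subsingleton.elim ((powPt (k := k) (n₀ j)).comp (cst k k)) (Algebra.ofId k (MonoidAlgebra k N))] at h2
    exact h2
  · obtain ⟨j, rfl⟩ := List.mem_ofFn.1 hμ
    have h2 := congrArg (push (cochar (k := k) (χ j) : MonoidAlgebra k N →ₐ[k] k[T;T⁻¹])) h.eq
    rw [map_mul, map_mul, DynLib.push_push, Subsingleton.elim (AlgHom.comp _ (Algebra.ofId k (MonoidAlgebra k N))) (cst k k)] at h2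
    rw [DynLib.conj_apply, tee_self, mul_inv_eq_iff_eq_mul]
    exact h2.symm

end Groth.Agent.CentConn12
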