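import Groth.Agent.CentConn12.Affine
import Groth.Agent.ConjConst26.BorelMem
import Groth.Agent.AGFQuot23.CommBorel
import Groth.Agent.SGA3xLib.SepFibre
import Groth.Agent.FlatMorWeight.Comp
import Groth.Agent.S4112
import Groth.Agent.AlgGrpLib.AxesTorus

/-!
# Centralizers of tori in connected algebraic groups
-/

set_option autoImplicit false
set_option backward.isDefEq.respectTransparency.types false
set_option maxHeartbeats 800000
set_option linter.style.haveILetI false

universe u

open CategoryTheory CategoryTheory.Limits MonoidalCategory CartesianMonoidalCategory MonObj GrpObj AlgebraicGeometry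
open WithConv
open Groth.Agent.AlgGrpLib (ptOf)

noncomputable section

namespace Groth.Agent.CentConn12

variable {k : Type u} [Field k] [IsAlgClosed k]

theorem exists_prime_ne_zero (k : Type u) [Field k] (m : ℕ) : ∃ l : ℕ, l.Prime ∧ m < l ∧ (l : k) ≠ 0 := by
  obtain ⟨l, hl, hp⟩ := Nat.exists_infinite_primes (max m (ringChar k) + 1)
  refine ⟨l, hp, by omega, fun h => ?_⟩
  rcases (Nat.dvd_prime hp).1 ((ringChar.spec k l).1 h) with h1 | h1
  · haveI : CharP k 1 := h1 ▸ ringChar.charP k
    exact one_ne_zero (α := k) ((Nat.cast_one (R := k)).symm.trans (CharP.cast_eq_zero k 1))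
  · omega

theorem pt_pow_single {N : Type u} [CommGroup N] (w : DynLib.Pt k (MonoidAlgebra k N) k) (n : ℕ) (m : N) :
    (w ^ n).ofConv (MonoidAlgebra.single m 1) = w.ofConv (MonoidAlgebra.single m 1) ^ n :=
  map_pow (evS (k := k) (R := k) m) w n

/-- The torsion points of order invertible in the field are dense in a torus. -/
theorem torsion_dense {N : Type u} [CommGroup N] {r : ℕ} (ε : N ≃* Multiplicative (Fin r → ℤ))
    {Z : Set (HopfQuot.spec (k := k) (MonoidAlgebra k N)).left} (hZ : IsClosed Z)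
    (h : ∀ (w : HopfQuot.Pt k (MonoidAlgebra k N) k) (n : ℕ), (n : k) ≠ 0 → w ^ n = 1 →
      ptOf (AGFQuot23.ratPt w) ∈ Z) : Z = Set.univ := by
  let H : Submonoid (DynLib.Pt k (MonoidAlgebra k N) k) :=
    { carrier := {w | ∃ n : ℕ, (n : k) ≠ 0 ∧ w ^ n = 1}
      one_mem' := ⟨1, by simp, one_pow 1⟩
      mul_mem' := fun {a b} ⟨n, hn, ha⟩ ⟨n', hn', hb⟩ => ⟨n * n', by rw [Nat.cast_mul]; exact mul_ne_zero hn hn', by
        rw [(show Commute a b from pt_comm a b).mul_pow, pow_mul, pow_mul', ha, hb, one_pow, one_pow, _root_.one_mul]⟩ }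
  let ev : N → (H →* k) := fun m => (evS (k := k) (R := k) m).comp H.subtype
  have hinj : Function.Injective ev := by
    intro m m' hm
    by_contra hne
    obtain ⟨i, hi⟩ : ∃ i, Multiplicative.toAdd (ε m) i ≠ Multiplicative.toAdd (ε m') i := by
      by_contra hh
      push Not at hh
      exact hne (ε.injective (Multiplicative.toAdd.injective (funext hh)))
    let d := Multiplicative.toAdd (ε m) i - Multiplicative.toAdd (ε m') i
    obtain ⟨l, hl, hdl, hlk⟩ := exists_prime_ne_zero k d.natAbs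
    haveI : NeZero (l : k) := ⟨hlk⟩
    obtain ⟨ζ, hζ⟩ := HasEnoughRootsOfUnity.exists_primitiveRoot k l
    have hu : IsUnit ζ := hζ.isUnit hl.ne_zero
    let χ : N →* k := (Units.coeHom k).comp ((zpowersHom kˣ hu.unit).comp
      ((AddMonoidHom.toMultiplicative (Pi.evalAddMonoidHom (fun _ : Fin r => ℤ) i)).comp ε.toMonoidHom))
    let w : DynLib.Pt k (MonoidAlgebra k N) k := toConv (MonoidAlgebra.lift k k N χ)
    have hev : ∀ x, w.ofConv (MonoidAlgebra.single x 1) = ((hu.unit ^ (Multiplicative.toAdd (ε x) i) : kˣ) : k) :=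
      fun x => by
        show MonoidAlgebra.lift k k N χ (MonoidAlgebra.single x 1) = _
        rw [MonoidAlgebra.lift_single, one_smul]
        rfl
    have hwl : w ^ l = 1 := pt_ext fun x => by
      show (w ^ l).ofConv (MonoidAlgebra.single x 1) = evS x 1
      rw [pt_pow_single, hev, map_one, ← Units.val_pow_eq_pow_val, ← zpow_natCast, ← zpow_mul, mul_comm, zpow_mul,
        zpow_natCast, show hu.unit ^ l = 1 from Units.ext (by rw [Units.val_pow_eq_pow_val]; exact hζ.pow_eq_one),
        one_zpow, Units.val_one]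
    have h2 : w.ofConv (MonoidAlgebra.single m 1) = w.ofConv (MonoidAlgebra.single m' 1) :=
      DFunLike.congr_fun hm ⟨w, l, hlk, hwl⟩
    rw [hev, hev] at h2
    have h3 : hu.unit ^ d = 1 := by rw [zpow_sub, Units.ext h2, mul_inv_cancel]
    have h4 : (l : ℤ) ∣ d := (hζ.zpow_eq_one_iff_dvd d).1 (by
      rw [← hu.unit_spec, ← Units.val_zpow_eq_zpow_val, h3, Units.val_one])
    have h5 : d.natAbs = 0 := Nat.eq_zero_of_dvd_of_lt (Int.natCast_dvd.1 h4) hdl
    omega
  have hLI := (linearIndependent_monoidHom H k).comp ev hinj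
  let L : MonoidAlgebra k N →ₗ[k] (H → k) :=
    { toFun := fun f w => (w : DynLib.Pt k (MonoidAlgebra k N) k).ofConv f
      map_add' := fun f g => funext fun w => map_add _ f g
      map_smul' := fun a f => funext fun w => map_smul _ a f }
  have hL : ∀ f : MonoidAlgebra k N, L f = 0 → f = 0 := by
    have e : (L ∘ MonoidAlgebra.basis N k : N → (H → k)) = (fun g : H →* k => (g : H → k)) ∘ ev := by
      funext m w
      show (w : DynLib.Pt k (MonoidAlgebra k N) k).ofConv (MonoidAlgebra.basis N k m) = _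
      rw [MonoidAlgebra.basis_apply]
      rfl
    intro f hf
    refine (MonoidAlgebra.basis N k).repr.injective ?_
    rw [map_zero]
    refine linearIndependent_iff.1 hLI _ ?_
    rw [← e, ← Finsupp.apply_linearCombination, Module.Basis.linearCombination_repr, hf]
  by_contra hne
  obtain ⟨x, hx⟩ := (Set.ne_univ_iff_exists_notMem Z).1 hne
  have hZ' : IsClosed (Z : Set (PrimeSpectrum (MonoidAlgebra k N))) := hZ
  let x' : PrimeSpectrum (MonoidAlgebra k N) := x
  let Z' : Set (PrimeSpectrum (MonoidAlgebra k N)) := Z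
  replace hx : x' ∉ PrimeSpectrum.zeroLocus (PrimeSpectrum.vanishingIdeal Z' : Set (MonoidAlgebra k N)) := by
    rw [PrimeSpectrum.zeroLocus_vanishingIdeal_eq_closure]
    exact fun hc => hx (hZ'.closure_subset hc)
  rw [PrimeSpectrum.mem_zeroLocus] at hx
  obtain ⟨f, hf, hfx⟩ := Set.not_subset.1 hx
  refine hfx ?_
  rw [hL f (funext fun w => ?_)]
  · exact x'.asIdeal.zero_mem
  obtain ⟨w, n, hn, hw⟩ := w
  have h1 := (PrimeSpectrum.mem_vanishingIdeal _ _).1 hf _ (h w n hn hw)
  change f ∈ (IsLocalRing.maximalIdeal k).comap w.ofConv.toRingHom at h1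
  rw [IsLocalRing.maximalIdeal_eq_bot, Ideal.mem_comap, Ideal.mem_bot] at h1
  exact h1

/-- A preconnected subset of a finite set of closed points is a subsingleton. -/
theorem subsingleton_of_finite {X : Type*} [TopologicalSpace X] {F S : Set X} (hF : F.Finite)
    (hc : ∀ x ∈ F, IsClosed ({x} : Set X)) (hS : IsPreconnected S) (hSF : S ⊆ F) : S.Subsingleton := by
  intro a ha b hb
  by_contra hne
  have h1 : IsClosed (F \ {a}) := by
    rw [← Set.biUnion_of_singleton (F \ {a})]
    exact hF.diff.isClosed_biUnion fun x hx => hc x hx.1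
  obtain ⟨x, -, hx, hx'⟩ := isPreconnected_closed_iff.1 hS {a} (F \ {a}) (hc a (hSF ha)) h1
    (fun x hx => by
      by_cases h : x = a
      · exact Or.inl h
      · exact Or.inr ⟨hSF hx, h⟩) ⟨a, ha, rfl⟩ ⟨b, hb, hSF hb, fun h => hne h.symm⟩
  exact hx'.2 hx

/-- The centralizer of a torus in a connected algebraic group is connected. -/
theorem connected_centralizer {G : Over (Spec (CommRingCat.of k))} [GrpObj G] [Smooth G.hom] [QuasiCompact G.hom]
    [ConnectedSpace G.left] {T : Over (Spec (CommRingCat.of k))} [GrpObj T] (hT : Red.IsTorus T)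
    (j : T ⟶ G) [IsMonHom j]
    {C : Over (Spec (CommRingCat.of k))} [GrpObj C] {c : C ⟶ G} (hC : Red.IsCentralizerOf j c) :
    ConnectedSpace C.left := by
  haveI : IsSeparated G.hom := SGA3xLib.isSeparated_of_grpObj G
  obtain ⟨hsm, hcl⟩ := smooth_closed hT j hC
  haveI := hsm; haveI := hcl; haveI := hC.1; haveI := hC.2.1
  obtain ⟨W, _, p, K, _, v, hp, hWa, hWs, hWc, hpf, hps, hv, hKc, hker, hcen⟩ :=
    ConjConst26.BorelMem.exists_affine_quotient (G := G)
  haveI := hp; haveI := hWa; haveI := hWs; haveI := hWc; haveI := hpf; haveI := hps; haveI := hKc; haveI := hv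
  haveI : QuasiCompact W.hom := (quasiCompact_iff_compactSpace W.hom).2 inferInstance
  haveI : IsSeparated W.hom := SGA3xLib.isSeparated_of_grpObj W
  haveI : IsMonHom (j ≫ p) := inferInstance
  obtain ⟨CW, _, cW, hCW, hcWcl, hCWs⟩ := Groth.Agent.SGA3cLib.MTTransporter.exists_centralizer (j ≫ p)
    (Groth.Agent.SGA3cLib.CentralFib.locally_of_multTypeFT (Groth.Agent.MultExt26.isMultTypeFT_of_torus T hT))
  haveI := hcWcl; haveI := hCWs; haveI := hCW.1; haveI := hCW.2.1
  haveI : ConnectedSpace CW.left := connected_affine hT (j ≫ p) hCW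
  haveI : IsClosedImmersion (η[W]).left := by
    haveI : IsClosedImmersion ((η[W]).left ≫ W.hom) := by
      rw [Over.w]
      exact inferInstanceAs (IsClosedImmersion (𝟙 (Spec (CommRingCat.of k))))
    exact IsClosedImmersion.of_comp (η[W]).left W.hom
  haveI : Mono v := by
    refine ⟨fun {X} a b hab => ?_⟩
    exact hker.hom_ext hab (toUnit_unique _ _)
  haveI : IsClosedImmersion v.left :=
    MorphismProperty.of_isPullback (P := @IsClosedImmersion) ((hker.map (Over.forget _)).flip) (show IsClosedImmersion (η[W]).left from inferInstance)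
  haveI : LocallyOfFiniteType K.hom := by rw [← Over.w v]; infer_instance
  haveI : QuasiCompact K.hom := by rw [← Over.w v]; infer_instance
  have hKcomm : ∀ (X : Over (Spec (CommRingCat.of k))) (a b : X ⟶ K), a * b = b * a := fun X a b => by
    rw [← cancel_mono v, MonObj.mul_comp, MonObj.mul_comp, hcen X a (b ≫ v)]
  haveI : IsCommMonObj K := ⟨by
    rw [show (β_ K K).hom = lift (snd K K) (fst K K) by ext <;> simp, ← Hom.mul_def, hKcomm, Hom.mul_def,
      lift_fst_snd, Category.id_comp]⟩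
  -- the preimage of the centralizer in the affine quotient
  let P : Set G.left := p.left ⁻¹' Set.range cW.left
  have hPcl : IsClosed P := cW.left.isClosedEmbedding.isClosed_range.preimage p.left.continuous
  have hPconn : _root_.IsConnected P := by
    have hcop : IsOpenMap p.left := by
      haveI := AlgGrpLib.ExactSeqBasics.locallyOfFinitePresentation_left p
      exact p.left.isOpenMap
    exact ((hcop.isQuotientMap p.left.continuous p.left.surjective).isCoinducing).isConnected_preimage_of_isClosed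
      (fun y => by
        obtain ⟨a, rfl⟩ := p.left.surjective y
        exact AlgGrpLib.ExactSeqBasics.isConnected_preimage p v hker a) cW.left.isClosedEmbedding.isClosed_range
      (isConnected_range cW.left.continuous)
  have hsub : Set.range c.left ⊆ P := by
    obtain ⟨t, ht⟩ := (hCW.2.2 C (c ≫ p)).2 fun X' x h => by
      have h1 := congrArg (fun f => f ≫ p) ((hC.2.2 C c).1 ⟨𝟙 C, Category.id_comp c⟩ X' x h)
      simp only [MonObj.mul_comp, Category.assoc] at h1
      exact h1
    rintro _ ⟨y, rfl⟩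
    refine ⟨t.left y, ?_⟩
    show cW.left (t.left y) = p.left (c.left y)
    exact congrArg (fun f : C ⟶ W => f.left y) ht
  obtain ⟨N, _, r, ε, eT, _, _⟩ := HMTor29.MaxTorus.isFreeDiag_of_isTorus T hT
  haveI : IsIso eT.left := inferInstanceAs (IsIso ((Over.forget _).map eT))
  haveI : IsDomain (MonoidAlgebra k (Multiplicative (Fin r → ℤ))) := NoZeroDivisors.to_isDomain _
  haveI : IsDomain (MonoidAlgebra k N) := (MonoidAlgebra.mapDomainRingEquiv k ε).toMulEquiv.isDomain _
  let Sp := HopfQuot.spec (k := k) (MonoidAlgebra k N)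
  haveI : IsReduced Sp.left := inferInstanceAs (IsReduced (Spec (CommRingCat.of (MonoidAlgebra k N))))
  haveI : Smooth T.hom := AlgGrpLib.AxesTorus.smooth_of_isTorus hT
  haveI : LocallyOfFiniteType Sp.hom := by rw [← Over.w eT]; infer_instance
  let m : Sp ⟶ G := eT ≫ j
  have hP : ∀ g : 𝟙_ (Over (Spec (CommRingCat.of k))) ⟶ G, ptOf g ∈ P →
      ∃ y : 𝟙_ (Over (Spec (CommRingCat.of k))) ⟶ C, y ≫ c = g := by
    intro g hg
    -- commutators lie in the kernel
    have hdk : ∀ g : 𝟙_ (Over (Spec (CommRingCat.of k))) ⟶ G, ptOf g ∈ P →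
        ∀ s : 𝟙_ (Over (Spec (CommRingCat.of k))) ⟶ Sp, ∃ a : 𝟙_ (Over (Spec (CommRingCat.of k))) ⟶ K,
          a ≫ v = g * (s ≫ m) * g⁻¹ * (s ≫ m)⁻¹ := by
      intro g hg s
      obtain ⟨y, hy⟩ := AGFQuot23.exists_point_of_mem cW (g ≫ p) hg
      have h1 := (hCW.2.2 _ (g ≫ p)).1 ⟨y, hy⟩ _ (𝟙 _) (s ≫ eT)
      simp only [Category.id_comp, Category.assoc] at h1
      obtain ⟨a, ha, -⟩ := hker.exists_lift (g * (s ≫ m) * g⁻¹ * (s ≫ m)⁻¹) (toUnit _) (by
        simp only [MonObj.mul_comp, GrpObj.inv_comp, m, Category.assoc, h1, mul_inv_cancel_right, mul_inv_cancel]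
        simp [Hom.one_def])
      exact ⟨a, ha⟩
    -- torsion points
    have htor : ∀ (w : HopfQuot.Pt k (MonoidAlgebra k N) k) (n : ℕ), (n : k) ≠ 0 → w ^ n = 1 →
        g * (AGFQuot23.ratPt w ≫ m) * g⁻¹ * (AGFQuot23.ratPt w ≫ m)⁻¹ = 1 := by
      intro w n hn hw
      let φ : HopfQuot.Pt k (MonoidAlgebra k N) k →* (𝟙_ (Over (Spec (CommRingCat.of k))) ⟶ G) :=
        MonoidHom.mk' (fun w => AGFQuot23.ratPt w ≫ m) fun a b => by rw [AGFQuot23.ratPt_mul, MonObj.mul_comp]
      let s := φ w
      have hs : s ^ n = 1 := by rw [← map_pow, hw, map_one]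
      haveI : Etale ((𝟙 K : K ⟶ K) ^ n).left := S4112.result k K n hn
      haveI := FlatMorWeight.locallyQuasiFinite_of_etale ((𝟙 K : K ⟶ K) ^ n).left
      haveI : QuasiCompact ((𝟙 K : K ⟶ K) ^ n).left := by
        haveI : IsSeparated K.hom := SGA3xLib.isSeparated_of_grpObj K
        haveI : QuasiCompact (((𝟙 K : K ⟶ K) ^ n).left ≫ K.hom) := by rw [Over.w]; infer_instance
        exact QuasiCompact.of_comp _ K.hom
      let F : Set G.left := ptOf '' {y | ∃ a : 𝟙_ (Over (Spec (CommRingCat.of k))) ⟶ K, a ≫ v = y ∧ a ^ n = 1}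
      have hF : F.Finite := by
        refine (((𝟙 K : K ⟶ K) ^ n).left.finite_preimage_singleton
          (ptOf (1 : 𝟙_ (Over (Spec (CommRingCat.of k))) ⟶ K))).image v.left |>.subset ?_
        rintro _ ⟨_, ⟨a, rfl, ha⟩, rfl⟩
        refine ⟨ptOf a, ?_, rfl⟩
        have h2 : a ≫ ((𝟙 K : K ⟶ K) ^ n) = 1 := by rw [MonObj.comp_pow, Category.comp_id, ha]
        exact congrArg (fun f : _ ⟶ K => ptOf f) h2
      have hFc : ∀ x ∈ F, IsClosed ({x} : Set G.left) := by
        rintro _ ⟨y, -, rfl⟩
        exact AGFQuot23.isClosed_ptOf y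
      let f : G ⟶ G := 𝟙 G * (toUnit G ≫ s) * (𝟙 G)⁻¹ * (toUnit G ≫ s)⁻¹
      have hf : ∀ x : 𝟙_ (Over (Spec (CommRingCat.of k))) ⟶ G, x ≫ f = x * s * x⁻¹ * s⁻¹ := by
        intro x
        simp only [f, MonObj.comp_mul, GrpObj.comp_inv, Category.comp_id, ← Category.assoc,
          toUnit_unique (x ≫ toUnit G) (𝟙 _), Category.id_comp]
      have hfF : f.left '' P ⊆ F := by
        rintro _ ⟨x, hx, rfl⟩
        have hFcl : IsClosed F := by
          rw [← Set.biUnion_of_singleton F]
          exact hF.isClosed_biUnion hFc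
        refine (AGFQuot23.subset_of_forall_point (Z := G) hPcl.isLocallyClosed (hFcl.preimage f.left.continuous)
          (fun z hz => ?_)) hx
        obtain ⟨a, ha⟩ := hdk z hz (AGFQuot23.ratPt w)
        refine ⟨z ≫ f, ⟨a, by rw [hf z]; exact ha, ?_⟩, rfl⟩
        rw [← cancel_mono v, MonObj.pow_comp, MonObj.one_comp, ha]
        show (z * s * z⁻¹ * s⁻¹) ^ n = 1
        have h4 : Commute (z * s * z⁻¹ * s⁻¹) s := by
          rw [show z * s * z⁻¹ * s⁻¹ = a ≫ v from ha.symm]
          exact hcen _ a s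
        have h5 := h4.mul_pow n
        rw [inv_mul_cancel_right, conj_pow, hs, _root_.mul_one, mul_inv_cancel, _root_.mul_one] at h5
        exact h5.symm
      have h1P : ptOf (1 : 𝟙_ (Over (Spec (CommRingCat.of k))) ⟶ G) ∈ P := by
        refine ⟨ptOf (1 : 𝟙_ (Over (Spec (CommRingCat.of k))) ⟶ CW), ?_⟩
        exact congrArg (fun f : _ ⟶ W => ptOf f)
          ((MonObj.one_comp cW).trans (MonObj.one_comp p).symm :
            (1 : 𝟙_ (Over (Spec (CommRingCat.of k))) ⟶ CW) ≫ cW = 1 ≫ p)
      have h6 := subsingleton_of_finite hF hFc (hPconn.2.image _ f.left.continuous.continuousOn) hfF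
        ⟨_, hg, rfl⟩ ⟨_, h1P, rfl⟩
      have h7 : g ≫ f = (1 : 𝟙_ (Over (Spec (CommRingCat.of k))) ⟶ G) ≫ f := AGFQuot23.ratPoint_ext _ _ h6
      rw [hf, hf] at h7
      simpa [s, φ] using h7
    let u : Sp ⟶ G := toUnit Sp ≫ g
    let d : Sp ⟶ G := u * m * u⁻¹ * m⁻¹
    have hd : ∀ s : 𝟙_ (Over (Spec (CommRingCat.of k))) ⟶ Sp, s ≫ d = g * (s ≫ m) * g⁻¹ * (s ≫ m)⁻¹ := by
      intro s
      simp only [d, u, MonObj.comp_mul, GrpObj.comp_inv, ← Category.assoc (h := g),
        toUnit_unique (s ≫ toUnit Sp) (𝟙 _), Category.id_comp]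
    have hd1 : d = 1 := by
      refine AGFQuot23.hom_ext_of_points d 1 fun s => ?_
      rw [MonObj.comp_one]
      refine AGFQuot23.ratPoint_ext _ _ ?_
      have hZ := torsion_dense ε ((AGFQuot23.isClosed_ptOf (1 : 𝟙_ (Over (Spec (CommRingCat.of k))) ⟶ G)).preimage
        d.left.continuous) (fun w n hn hw => congrArg (fun f : _ ⟶ G => ptOf f) ((hd _).trans (htor w n hn hw)))
      exact Set.eq_univ_iff_forall.1 hZ (ptOf s)
    refine (hC.2.2 _ g).2 fun X' x t => ?_
    have h8 : u * m = m * u := by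
      have h9 : u * m * u⁻¹ * m⁻¹ = 1 := hd1
      rwa [mul_inv_eq_one, mul_inv_eq_iff_eq_mul] at h9
    have h10 := congrArg (fun f => (t ≫ CategoryTheory.inv eT) ≫ f) h8
    simp only [u, m, MonObj.comp_mul, Category.assoc, IsIso.inv_hom_id_assoc] at h10
    rwa [← Category.assoc (CategoryTheory.inv eT), ← Category.assoc t,
      toUnit_unique (t ≫ CategoryTheory.inv eT ≫ toUnit _) x] at h10
  have hrange : Set.range c.left = P := by
    refine Set.Subset.antisymm hsub ?_
    refine AGFQuot23.subset_of_forall_point (Z := G) hPcl.isLocallyClosed c.left.isClosedEmbedding.isClosed_range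
      fun z hz => ?_
    obtain ⟨y, hy⟩ := hP z hz
    exact ⟨ptOf y, congrArg (fun f : _ ⟶ G => ptOf f) hy⟩
  rw [connectedSpace_iff_univ]
  refine ⟨⟨(η[C]).left (IsLocalRing.closedPoint k), trivial⟩, ?_⟩
  rw [← c.left.isClosedEmbedding.isInducing.isPreconnected_image, Set.image_univ, hrange]
  exact hPconn.isPreconnected

end Groth.Agent.CentConn12
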