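import Groth.Agent.CentConn12.Main
import Groth.Agent.MaxTorus26.Basic
import Groth.Agent.ConjConst26.MaxTorusConj
import Groth.Agent.SGA3cLib.CentralEq
import Groth.Agent.S5260

/-!
# The normalizer of a Cartan subgroup is the normalizer of its maximal torus
-/

set_option autoImplicit false
set_option backward.isDefEq.respectTransparency.types false
set_option maxHeartbeats 800000
set_option linter.style.haveILetI false

universe u

open CategoryTheory CategoryTheory.Limits MonoidalCategory CartesianMonoidalCategory MonObj GrpObj AlgebraicGeometry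
open Groth.Agent.SGA3cLib
open Groth.Agent.AlgGrpLib (ptOf)

noncomputable section

namespace Groth.Agent.CentConn12

/-- The condition defining the normalizer. -/
def NormPt {S : Scheme.{u}} {H G X : Over S} [GrpObj G] (i : H ⟶ G) (g : X ⟶ G) : Prop :=
  ∀ (X' : Over S) (x : X' ⟶ X) (h : X' ⟶ H),
    (∃ h' : X' ⟶ H, (x ≫ g) * (h ≫ i) * (x ≫ g)⁻¹ = h' ≫ i) ∧
    (∃ h' : X' ⟶ H, (x ≫ g)⁻¹ * (h ≫ i) * (x ≫ g) = h' ≫ i)

/-- Normalizing a subgroup entails normalizing its centralizer. -/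
theorem normPt_centralizer {S : Scheme.{u}} {G T C X : Over S} [GrpObj G] [GrpObj T] [GrpObj C] {i : T ⟶ G}
    {c : C ⟶ G} (hC : Red.IsCentralizerOf i c) (g : X ⟶ G) (hg : NormPt i g) : NormPt c g := by
  intro X' x h
  have hh := (hC.2.2 X' (h ≫ c)).1 ⟨h, rfl⟩
  have key : ∀ (y : X' ⟶ G), (∀ (X'' : Over S) (z : X'' ⟶ X') (t : X'' ⟶ T),
      ∃ t' : X'' ⟶ T, (z ≫ y)⁻¹ * (t ≫ i) * (z ≫ y) = t' ≫ i) →
      ∃ h' : X' ⟶ C, y * (h ≫ c) * y⁻¹ = h' ≫ c := by
    intro y hy
    obtain ⟨h', hh'⟩ := (hC.2.2 X' (y * (h ≫ c) * y⁻¹)).2 fun X'' z t => by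
      obtain ⟨t', ht'⟩ := hy X'' z t
      have h1 := hh X'' z t'
      have h2 : t ≫ i = (z ≫ y) * (t' ≫ i) * (z ≫ y)⁻¹ := by rw [← ht']; group
      rw [MonObj.comp_mul, MonObj.comp_mul, GrpObj.comp_inv, h2]
      calc _ = (z ≫ y) * ((z ≫ h ≫ c) * (t' ≫ i)) * (z ≫ y)⁻¹ := by group
        _ = (z ≫ y) * ((t' ≫ i) * (z ≫ h ≫ c)) * (z ≫ y)⁻¹ := by rw [h1]
        _ = _ := by group
    exact ⟨h', hh'.symm⟩
  refine ⟨key (x ≫ g) fun X'' z t => ?_, ?_⟩
  · rw [← Category.assoc]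
    exact (hg X'' (z ≫ x) t).2
  · obtain ⟨h', hh'⟩ := key (x ≫ g)⁻¹ fun X'' z t => by
      obtain ⟨t', ht'⟩ := (hg X'' (z ≫ x) t).1
      refine ⟨t', ?_⟩
      rw [GrpObj.comp_inv, _root_.inv_inv, ← Category.assoc, ht']
    exact ⟨h', by rw [← hh', _root_.inv_inv]⟩

variable {k : Type u} [Field k] [IsAlgClosed k] {G : Over (Spec (CommRingCat.of k))} [GrpObj G] [Smooth G.hom]
  [QuasiCompact G.hom] [ConnectedSpace G.left]
  {T C : Over (Spec (CommRingCat.of k))} [GrpObj T] [GrpObj C] {i : T ⟶ G} {c : C ⟶ G}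

/-- A rational point normalizing a Cartan subgroup normalizes its maximal torus. -/
theorem exists_conj_of_ratPt (hT : Red.IsMaximalTorus i) (hC : Red.IsCentralizerOf i c)
    {g : 𝟙_ (Over (Spec (CommRingCat.of k))) ⟶ G} (hg : NormPt c g)
    (X : Over (Spec (CommRingCat.of k))) (t : X ⟶ T) :
    ∃ t' : X ⟶ T, (toUnit X ≫ g) * (t ≫ i) * (toUnit X ≫ g)⁻¹ = t' ≫ i := by
  haveI : IsSeparated G.hom := SGA3xLib.isSeparated_of_grpObj G
  obtain ⟨hhom, hmono, hTt, hmax⟩ := id hT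
  haveI := hhom; haveI := hmono; haveI := hC.1; haveI := hC.2.1
  haveI : IsSeparated C.hom := SGA3xLib.isSeparated_of_grpObj C
  obtain ⟨hsm, hcl⟩ := smooth_closed hTt i hC
  haveI := hsm; haveI := hcl
  obtain ⟨i', hi'⟩ := (hC.2.2 T i).2 fun X' x h => by
    rw [← MonObj.mul_comp, ← MonObj.mul_comp, SGA3cLib.torus_mul_comm hTt]
  haveI : Mono (i' ≫ c) := hi'.symm ▸ hmono
  haveI : Mono i' := mono_of_mono i' c
  haveI : IsMonHom i' := BCPoints.isMonHom_of_mul i' fun X x y => by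
    rw [← cancel_mono c, MonObj.mul_comp (x ≫ i') (y ≫ i') c, Category.assoc, Category.assoc, Category.assoc, hi',
      MonObj.mul_comp]
  have hi'max : Red.IsMaximalTorus i' := by
    refine ⟨inferInstance, inferInstance, hTt, fun s T' _ j _ _ f hT' hfj => ?_⟩
    haveI : (Over.pullback (Red.geomPt s)).IsRightAdjoint := (Over.mapPullbackAdj _).isRightAdjoint
    let c₀ : Red.geomFibre s C ⟶ Red.geomFibre s G := (Over.pullback (Red.geomPt s)).map c
    haveI : IsMonHom c₀ := inferInstanceAs (IsMonHom ((Over.pullback (Red.geomPt s)).map c))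
    haveI : Mono c₀ := inferInstanceAs (Mono ((Over.pullback (Red.geomPt s)).map c))
    exact hmax s T' (j ≫ c₀) f hT' (by rw [← Category.assoc, hfj, ← Functor.map_comp, hi'])
  obtain ⟨⟨a, ha⟩, b, hb⟩ := hg C (toUnit C) (𝟙 C)
  simp only [Category.id_comp] at ha hb
  have hac : ∀ (Y : Over (Spec (CommRingCat.of k))) (h : Y ⟶ C),
      h ≫ a ≫ c = (toUnit Y ≫ g) * (h ≫ c) * (toUnit Y ≫ g)⁻¹ := fun Y h => by
    rw [← ha, MonObj.comp_mul, MonObj.comp_mul, GrpObj.comp_inv, ← Category.assoc,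
      toUnit_unique (h ≫ toUnit C) (toUnit Y)]
  have hbc : ∀ (Y : Over (Spec (CommRingCat.of k))) (h : Y ⟶ C),
      h ≫ b ≫ c = (toUnit Y ≫ g)⁻¹ * (h ≫ c) * (toUnit Y ≫ g) := fun Y h => by
    rw [← hb, MonObj.comp_mul, MonObj.comp_mul, GrpObj.comp_inv, ← Category.assoc,
      toUnit_unique (h ≫ toUnit C) (toUnit Y)]
  haveI : IsMonHom a := BCPoints.isMonHom_of_mul a fun Y x y => by
    rw [← cancel_mono c, Category.assoc, hac, MonObj.mul_comp, MonObj.mul_comp, Category.assoc, Category.assoc,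
      hac, hac]
    group
  haveI : IsIso a := ⟨b, by rw [← cancel_mono c, Category.assoc, hbc, ← ha, Category.id_comp]; group,
    by rw [← cancel_mono c, Category.assoc, hac, ← hb, Category.id_comp]; group⟩
  have hcentral : ∀ (X : Over (Spec (CommRingCat.of k))) (h : X ⟶ C) (t : X ⟶ T),
      h * (t ≫ i') = (t ≫ i') * h := fun X h t => by
    rw [← cancel_mono c, MonObj.mul_comp, MonObj.mul_comp, Category.assoc, hi']
    have h' := (hC.2.2 X (h ≫ c)).1 ⟨h, rfl⟩ X (𝟙 X) t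
    rwa [Category.id_comp] at h'
  obtain ⟨φ, hφ⟩ := MaxTorus26.exists_iso_of_central hi'max (ConjConst26.isMaximalTorus_comp_aut hi'max a) hcentral
  refine ⟨t ≫ φ.hom, ?_⟩
  rw [← hi', Category.assoc, ← Category.assoc φ.hom, hφ, Category.assoc, ← Category.assoc t i', ← Category.assoc t i',
    hac]

set_option maxHeartbeats 800000 in
/-- Normalizing a Cartan subgroup entails normalizing its maximal torus, on points with arbitrary values. -/
theorem normPt_torus (hT : Red.IsMaximalTorus i) (hC : Red.IsCentralizerOf i c)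
    {X : Over (Spec (CommRingCat.of k))} (g : X ⟶ G) (hg : NormPt c g) : NormPt i g := by
  haveI : IsSeparated G.hom := SGA3xLib.isSeparated_of_grpObj G
  obtain ⟨hhom, hmono, hTt, -⟩ := id hT
  haveI := hhom; haveI := hmono; haveI := hC.1; haveI := hC.2.1
  obtain ⟨hsm, hcl⟩ := smooth_closed hTt i hC
  haveI := hsm; haveI := hcl
  haveI : QuasiCompact C.hom := by rw [← Over.w c]; infer_instance
  haveI : IsSeparated C.hom := SGA3xLib.isSeparated_of_grpObj C
  haveI : ConnectedSpace C.left := connected_centralizer hTt i hC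
  obtain ⟨N', _, n', hN', hn'cl, -⟩ := S5260.result G C (fun s => by
    haveI : Subsingleton ↥(Spec (CommRingCat.of k)) := inferInstanceAs (Subsingleton (PrimeSpectrum k))
    haveI : ConnectedSpace ↥(C.hom ⁻¹' {s}) :=
      Function.Surjective.connectedSpace (f := fun x : C.left => (⟨x, Subsingleton.elim _ _⟩ : ↥(C.hom ⁻¹' {s})))
        (fun x => ⟨x.1, rfl⟩) (continuous_id.subtype_mk _)
    exact (C.hom.fiberHomeo s).symm.surjective.connectedSpace (C.hom.fiberHomeo s).symm.continuous) c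
  haveI := hn'cl; haveI := hN'.1; haveI := hN'.2.1
  haveI : LocallyOfFiniteType N'.hom := by rw [← Over.w n']; infer_instance
  obtain ⟨i', hi'⟩ := (hC.2.2 T i).2 fun X' x h => by
    rw [← MonObj.mul_comp, ← MonObj.mul_comp, SGA3cLib.torus_mul_comm hTt]
  haveI : Mono (i' ≫ c) := hi'.symm ▸ hmono
  haveI : Mono i' := mono_of_mono i' c
  haveI : IsMonHom i' := BCPoints.isMonHom_of_mul i' fun X x y => by
    rw [← cancel_mono c, MonObj.mul_comp (x ≫ i') (y ≫ i') c, Category.assoc, Category.assoc, Category.assoc, hi',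
      MonObj.mul_comp]
  have hcentral : ∀ (X : Over (Spec (CommRingCat.of k))) (h : X ⟶ C) (t : X ⟶ T),
      h * (t ≫ i') = (t ≫ i') * h := fun X h t => by
    rw [← cancel_mono c, MonObj.mul_comp, MonObj.mul_comp, Category.assoc, hi']
    have h' := (hC.2.2 X (h ≫ c)).1 ⟨h, rfl⟩ X (𝟙 X) t
    rwa [Category.id_comp] at h'
  let f : N'.left ⟶ Spec (CommRingCat.of k) := N'.hom
  let F := Over.pullback f
  haveI : F.IsRightAdjoint := (Over.mapPullbackAdj f).isRightAdjoint
  let xN : ∀ (Z : Over N'.left), (Over.map f).obj Z ⟶ N' := fun Z => Over.homMk Z.hom rfl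
  have hxN : ∀ {Z Z' : Over N'.left} (z : Z ⟶ Z'), (Over.map f).map z ≫ xN Z' = xN Z := fun z =>
    Over.OverMorphism.ext (Over.w z)
  let P₀ : (Over.map f).obj (Red.bc f T) ⟶ T := (BCPoints.pt f T (Red.bc f T)).symm (𝟙 _)
  obtain ⟨u, hu⟩ := ((hN'.2.2 _ (xN (Red.bc f T) ≫ n')).1 ⟨_, rfl⟩ _ (𝟙 _) (P₀ ≫ i')).1
  let i₁ : Red.bc f T ⟶ Red.bc f C := F.map i'
  let i₂ : Red.bc f T ⟶ Red.bc f C := BCPoints.pt f C _ u
  have key : ∀ (Z : Over N'.left) (t : (Over.map f).obj Z ⟶ T),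
      BCPoints.pt f T Z t ≫ i₂ ≫ F.map c =
        BCPoints.pt f G Z ((xN Z ≫ n') * (t ≫ i) * (xN Z ≫ n')⁻¹) := by
    intro Z t
    have hP : (Over.map f).map (BCPoints.pt f T Z t) ≫ P₀ = t := by
      apply (BCPoints.pt f T Z).injective
      rw [BCPoints.pt_map_comp, Equiv.apply_symm_apply, Category.comp_id]
    rw [show i₂ ≫ F.map c = BCPoints.pt f G _ (u ≫ c) from (BCPoints.pt_comp f u c).symm, ← BCPoints.pt_map_comp, ← hu]
    simp only [MonObj.comp_mul, GrpObj.comp_inv, Category.id_comp, Category.assoc, hi', ← Category.assoc (g := P₀), hP,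
      ← Category.assoc (g := xN _), hxN]
  have key₁ : ∀ (Z : Over N'.left) (t : (Over.map f).obj Z ⟶ T),
      BCPoints.pt f T Z t ≫ i₁ ≫ F.map c = BCPoints.pt f G Z (t ≫ i) := by
    intro Z t
    rw [show i₁ ≫ F.map c = F.map i from by rw [← hi']; exact (F.map_comp i' c).symm]
    exact (BCPoints.pt_comp f t i).symm
  haveI : Mono (F.map c) := inferInstance
  haveI : IsMonHom i₁ := inferInstanceAs (IsMonHom (F.map i'))
  haveI : IsMonHom i₂ := BCPoints.isMonHom_of_mul i₂ fun Z x y => by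
    obtain ⟨x, rfl⟩ := (BCPoints.pt f T Z).surjective x
    obtain ⟨y, rfl⟩ := (BCPoints.pt f T Z).surjective y
    rw [← cancel_mono (F.map c), Category.assoc, ← BCPoints.pt_mul, key, MonObj.mul_comp, MonObj.mul_comp,
      Category.assoc, Category.assoc, key, key, ← BCPoints.pt_mul]
    congr 1
    group
  haveI : Mono i₁ := inferInstanceAs (Mono (F.map i'))
  haveI : Mono i₂ := ⟨fun {Z} x y hxy => by
    obtain ⟨x, rfl⟩ := (BCPoints.pt f T Z).surjective x
    obtain ⟨y, rfl⟩ := (BCPoints.pt f T Z).surjective y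
    have h1 := congrArg (fun z => z ≫ F.map c) hxy
    beta_reduce at h1
    rw [Category.assoc, Category.assoc, key, key] at h1
    have h2 : (xN Z ≫ n') * (x ≫ i) * (xN Z ≫ n')⁻¹ = (xN Z ≫ n') * (y ≫ i) * (xN Z ≫ n')⁻¹ :=
      (BCPoints.pt f G Z).injective h1
    rw [mul_left_inj, mul_right_inj, cancel_mono] at h2
    rw [h2]⟩
  haveI : Mono i₁.left := inferInstanceAs (Mono ((Over.forget _).map i₁))
  haveI : Mono i₂.left := inferInstanceAs (Mono ((Over.forget _).map i₂))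
  haveI : IsSeparated (Red.bc f C).hom := inferInstanceAs (IsSeparated (pullback.snd C.hom f))
  haveI : LocallyOfFiniteType (Red.bc f C).hom := inferInstanceAs (LocallyOfFiniteType (pullback.snd C.hom f))
  have hm : SGA3x.IsMultTypeFT (Red.bc f T) :=
    MultExt26.isMultTypeFT_of_torus _ (TorusAb27.isTorus_bc f T hTt)
  obtain ⟨U, hUc, hU, hgood⟩ := CentralEq.exists_clopen i₁ i₂ (Or.inr inferInstance) hm hm fun Z h t => by
    obtain ⟨h, rfl⟩ := (BCPoints.pt f C Z).surjective h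
    obtain ⟨t, rfl⟩ := (BCPoints.pt f T Z).surjective t
    rw [show BCPoints.pt f T Z t ≫ i₁ = BCPoints.pt f C Z (t ≫ i') from (BCPoints.pt_comp f t i').symm,
      ← BCPoints.pt_mul, ← BCPoints.pt_mul, hcentral]
  have hclosed : ∀ s : N'.left, IsClosed ({s} : Set N'.left) → s ∈ U := by
    intro s hs
    obtain ⟨y, rfl⟩ := AGFQuot23.closedPoint_eq_ptOf (Z := N') hs
    refine (hU _).2 ((CentralEq.good_field i₁ i₂ y.left (IsLocalRing.closedPoint k)).1 ?_)
    have hy : y.left ≫ f = 𝟙 _ := Over.w y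
    have hnorm := (hN'.2.2 _ (y ≫ n')).1 ⟨y, rfl⟩
    have hnorm' : NormPt c (y ≫ n')⁻¹ := (hN'.2.2 _ (y ≫ n')⁻¹).1 ⟨y⁻¹, GrpObj.inv_comp y n'⟩
    -- mutual factorizations over the rational point
    have hfac : ∀ (Z : Over (Spec (CommRingCat.of k))) (t : (Over.map f).obj ((Over.map y.left).obj Z) ⟶ T),
        (∃ p, BCPoints.pt f T _ p ≫ i₂ = BCPoints.pt f T _ t ≫ i₁) ∧
        (∃ p, BCPoints.pt f T _ p ≫ i₁ = BCPoints.pt f T _ t ≫ i₂) := by
      intro Z t
      have hx : xN ((Over.map y.left).obj Z) ≫ n' = toUnit ((Over.map f).obj ((Over.map y.left).obj Z)) ≫ y ≫ n' := by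
        rw [← Category.assoc]
        refine congrArg (· ≫ n') (Over.OverMorphism.ext ?_)
        rw [Over.comp_left]
        show Z.hom ≫ y.left = _
        rw [show (toUnit ((Over.map f).obj ((Over.map y.left).obj Z))).left = (Z.hom ≫ y.left) ≫ f from
          (Category.comp_id _).symm.trans (Over.w _)]
        simp only [Category.assoc, reassoc_of% hy]
      constructor
      · obtain ⟨p, hp⟩ := exists_conj_of_ratPt hT hC hnorm' _ t
        refine ⟨p, ?_⟩
        rw [← cancel_mono (F.map c), Category.assoc, Category.assoc, key, key₁, hx, ← hp]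
        simp only [GrpObj.comp_inv]
        congr 1
        group
      · obtain ⟨p, hp⟩ := exists_conj_of_ratPt hT hC hnorm _ t
        refine ⟨p, ?_⟩
        rw [← cancel_mono (F.map c), Category.assoc, Category.assoc, key, key₁, hx, hp]
    haveI : (Over.pullback y.left).IsRightAdjoint := (Over.mapPullbackAdj y.left).isRightAdjoint
    let X₁ := Red.bc y.left (Red.bc f T)
    obtain ⟨t, ht⟩ := (BCPoints.pt f T ((Over.map y.left).obj X₁)).surjective
      ((BCPoints.pt y.left (Red.bc f T) X₁).symm (𝟙 _))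
    obtain ⟨⟨p, hp⟩, q, hq⟩ := hfac X₁ t
    rw [ht] at hp hq
    have hto : ∀ {z : (Over.map y.left).obj X₁ ⟶ Red.bc f T} {j j' : Red.bc f T ⟶ Red.bc f C},
        z ≫ j = (BCPoints.pt y.left (Red.bc f T) X₁).symm (𝟙 _) ≫ j' →
        BCPoints.pt y.left _ X₁ z ≫ (Over.pullback y.left).map j = (Over.pullback y.left).map j' := by
      intro z j j' h
      have h1 := congrArg (BCPoints.pt y.left (Red.bc f C) X₁) h
      rwa [BCPoints.pt_comp, BCPoints.pt_comp, Equiv.apply_symm_apply, Category.id_comp] at h1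
    haveI : Mono ((Over.pullback y.left).map i₁) := inferInstance
    haveI : Mono ((Over.pullback y.left).map i₂) := inferInstance
    refine (CentralEq.good_iff i₁ i₂ _).2 ⟨⟨BCPoints.pt y.left _ X₁ (BCPoints.pt f T _ p),
      BCPoints.pt y.left _ X₁ (BCPoints.pt f T _ q), ?_, ?_⟩, hto hp⟩
    · rw [← cancel_mono ((Over.pullback y.left).map i₁), Category.assoc, hto hq, hto hp, Category.id_comp]
    · rw [← cancel_mono ((Over.pullback y.left).map i₂), Category.assoc, hto hp, hto hq, Category.id_comp]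
  haveI : JacobsonSpace N'.left := LocallyOfFiniteType.jacobsonSpace N'.hom
  have hall : ∀ s : N'.left, s ∈ U := fun s => by
    have h1 : closure (closedPoints N'.left) ⊆ (U : Set N'.left) := closure_minimal hclosed hUc
    rw [closure_closedPoints] at h1
    exact h1 (Set.mem_univ s)
  have hr : Set.range (𝟙 N'.left : N'.left ⟶ N'.left) ⊆ Set.range U.ι := by
    rw [Scheme.Opens.range_ι]; exact fun s _ => hall s
  have hk : IsOpenImmersion.lift U.ι (𝟙 N'.left) hr ≫ U.ι = 𝟙 N'.left := IsOpenImmersion.lift_fac _ _ _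
  have h1 : CentralEq.Good i₁ i₂ (𝟙 N'.left) :=
    @CentralEq.Good.of_comp N'.left _ _ _ i₁ i₂ (U : Scheme.{u}) N'.left U.ι hgood
      (IsOpenImmersion.lift U.ι (𝟙 N'.left) hr) (𝟙 N'.left) hk
  obtain ⟨ψ, hψ⟩ := (CentralEq.good_iff i₁ i₂ _).1 h1
  let α : Over.pullback (𝟙 N'.left) ≅ 𝟭 (Over N'.left) := Over.pullbackId
  have hfactor : i₂ = (α.inv.app (Red.bc f T) ≫ ψ.inv ≫ α.hom.app (Red.bc f T)) ≫ i₁ := by
    have hn : ∀ (w : Red.bc f T ⟶ Red.bc f C),
        α.hom.app (Red.bc f T) ≫ w = (Over.pullback (𝟙 N'.left)).map w ≫ α.hom.app (Red.bc f C) :=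
      fun w => (α.hom.naturality w).symm
    rw [Category.assoc, Category.assoc, hn i₁,
      show ψ.inv ≫ (Over.pullback (𝟙 N'.left)).map i₁ ≫ α.hom.app (Red.bc f C) =
        (Over.pullback (𝟙 N'.left)).map i₂ ≫ α.hom.app (Red.bc f C) by rw [← hψ]; simp, ← hn i₂, ← Category.assoc]
    simp
  -- points of the normalizer normalize the torus
  have main : ∀ (Y : Over (Spec (CommRingCat.of k))) (x : Y ⟶ N') (t : Y ⟶ T),
      ∃ t' : Y ⟶ T, (x ≫ n') * (t ≫ i) * (x ≫ n')⁻¹ = t' ≫ i := by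
    intro Y x t
    let Z : Over N'.left := Over.mk x.left
    let ι₀ : (Over.map f).obj Z ⟶ Y := Over.homMk (𝟙 Y.left) (by
      show 𝟙 Y.left ≫ Y.hom = x.left ≫ N'.hom
      rw [Category.id_comp, Over.w x])
    let ι₁ : Y ⟶ (Over.map f).obj Z := Over.homMk (𝟙 Y.left) (by
      show 𝟙 Y.left ≫ x.left ≫ N'.hom = Y.hom
      rw [Category.id_comp, Over.w x])
    have hι : ι₁ ≫ ι₀ = 𝟙 Y := Over.OverMorphism.ext (Category.id_comp _)
    have hx : ι₁ ≫ xN Z = x := Over.OverMorphism.ext (Category.id_comp _)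
    obtain ⟨p, hp⟩ := (BCPoints.pt f T Z).surjective
      (BCPoints.pt f T Z (ι₀ ≫ t) ≫ α.inv.app (Red.bc f T) ≫ ψ.inv ≫ α.hom.app (Red.bc f T))
    have h2 := key Z (ι₀ ≫ t)
    rw [hfactor] at h2
    simp only [← Category.assoc] at h2 hp
    rw [← hp, Category.assoc, key₁] at h2
    have h3 := congrArg (fun w => ι₁ ≫ w) ((BCPoints.pt f G Z).injective h2)
    simp only [MonObj.comp_mul, GrpObj.comp_inv, ← Category.assoc, hι, hx, Category.id_comp] at h3
    exact ⟨ι₁ ≫ p, h3.symm⟩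
  obtain ⟨x, hx⟩ := (hN'.2.2 X g).2 hg
  intro X' z t
  refine ⟨?_, ?_⟩
  · obtain ⟨t', ht'⟩ := main X' (z ≫ x) t
    exact ⟨t', by rw [← ht', Category.assoc, hx]⟩
  · obtain ⟨t', ht'⟩ := main X' (z ≫ x)⁻¹ t
    exact ⟨t', by rw [← ht', GrpObj.inv_comp, Category.assoc, hx, _root_.inv_inv]⟩

/-- The normalizers of a Cartan subgroup and of its maximal torus coincide. -/
theorem isNormalizerOf_iff (hT : Red.IsMaximalTorus i) (hC : Red.IsCentralizerOf i c)
    {N : Over (Spec (CommRingCat.of k))} [GrpObj N] (n : N ⟶ G) :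
    Red.IsNormalizerOf c n ↔ Red.IsNormalizerOf i n := by
  haveI := hT.1
  have h : ∀ (X : Over (Spec (CommRingCat.of k))) (g : X ⟶ G), NormPt c g ↔ NormPt i g := fun X g =>
    ⟨normPt_torus hT hC g, normPt_centralizer hC g⟩
  exact and_congr_right' (and_congr_right' (forall₂_congr fun X g => iff_congr Iff.rfl (h X g)))

end Groth.Agent.CentConn12
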