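import Groth.Agent.CentConn12.Affine

/-!
# A rational point of a torus with the same centralizer as the torus
-/

set_option autoImplicit false
set_option backward.isDefEq.respectTransparency.types false
set_option maxHeartbeats 800000
set_option linter.style.haveILetI false

universe u

open WithConv

noncomputable section

namespace Groth.Agent.CentConn12

variable {k : Type u} [Field k] {N : Type u} [CommGroup N] {A : Type u} [CommRing A] [HopfAlgebra k A]

/-- A point of a split torus separating a given finite set of characters. -/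
theorem exists_separating [IsAlgClosed k] {r : ℕ} (ε : N ≃* Multiplicative (Fin r → ℤ)) (F : Finset N) :
    ∃ w : DynLib.Pt k (MonoidAlgebra k N) k, ∀ m ∈ F, ∀ m' ∈ F, m ≠ m' →
      w.ofConv (MonoidAlgebra.single m 1) ≠ w.ofConv (MonoidAlgebra.single m' 1) := by
  classical
  haveI : IsDomain (MonoidAlgebra k (Multiplicative (Fin r → ℤ))) := NoZeroDivisors.to_isDomain _
  haveI : IsDomain (MonoidAlgebra k N) := (MonoidAlgebra.mapDomainRingEquiv k ε).toMulEquiv.isDomain _
  let f : MonoidAlgebra k N := ∏ p ∈ F.offDiag, (MonoidAlgebra.single p.1 1 - MonoidAlgebra.single p.2 1)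
  have hf : f ≠ 0 := Finset.prod_ne_zero_iff.2 fun p hp h0 => by
    have h1 := congrArg (fun x : MonoidAlgebra k N => x.coeff p.1) (sub_eq_zero.1 h0)
    simp [(Finset.mem_offDiag.1 hp).2.2.symm] at h1
  haveI hft : Algebra.FiniteType k (MonoidAlgebra k N) := by
    haveI : Monoid.FG N := Monoid.fg_of_surjective ε.symm.toMonoidHom ε.symm.surjective
    infer_instance
  haveI : IsJacobsonRing (MonoidAlgebra k N) := isJacobsonRing_of_finiteType (A := k)
  obtain ⟨m, hm, hfm⟩ : ∃ m : Ideal (MonoidAlgebra k N), m.IsMaximal ∧ f ∉ m := by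
    by_contra hh
    push Not at hh
    apply hf
    have h1 : f ∈ (⊥ : Ideal (MonoidAlgebra k N)).jacobson :=
      Ideal.mem_sInf.2 fun {J} hJ => hh J hJ.2
    rwa [IsJacobsonRing.out (R := MonoidAlgebra k N) inferInstance (Ideal.isPrime_bot).isRadical, Ideal.mem_bot] at h1
  haveI := hm
  obtain ⟨φ, hφ⟩ := AGFQuot23.exists_point_of_isMaximal (k := k) m
  refine ⟨toConv φ, fun a ha b hb hab h => hfm ?_⟩
  have h1 : φ f = 0 := by
    rw [map_prod]
    refine Finset.prod_eq_zero (i := (a, b)) (Finset.mem_offDiag.2 ⟨ha, hb, hab⟩) ?_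
    rw [map_sub]
    exact sub_eq_zero.2 h
  rw [← hφ]
  exact h1

/-- Evaluation of the conjugation morphism. -/
theorem exists_pt_centralizer [IsAlgClosed k] [Algebra.FiniteType k A] {r : ℕ} (ε : N ≃* Multiplicative (Fin r → ℤ))
    (θ : A →ₐc[k] MonoidAlgebra k N) :
    ∃ w : DynLib.Pt k (MonoidAlgebra k N) k, ∀ (R : Type u) [CommRing R] [Algebra k R] (g : DynLib.Pt k A R),
      Commute g (DynLib.pull θ (DynLib.push (Algebra.ofId k R) w)) →
        ∀ h : DynLib.Pt k (MonoidAlgebra k N) R, Commute g (DynLib.pull θ h) := by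
  classical
  let uN : DynLib.Pt k (MonoidAlgebra k N) (MonoidAlgebra A N) :=
    toConv (MonoidAlgebra.lift k (MonoidAlgebra A N) N (MonoidAlgebra.of A N))
  let γg : DynLib.Pt k A (MonoidAlgebra A N) := toConv (MonoidAlgebra.singleOneAlgHom : A →ₐ[k] MonoidAlgebra A N)
  let Φ : DynLib.Pt k A (MonoidAlgebra A N) := DynLib.pull θ uN * γg * (DynLib.pull θ uN)⁻¹
  obtain ⟨t, ht⟩ := (‹Algebra.FiniteType k A›).out
  let F : Finset N := insert 1 (t.biUnion fun a => (Φ.ofConv a).coeff.support)
  obtain ⟨w, hw⟩ := exists_separating (k := k) ε F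
  refine ⟨w, fun R _ _ g hg h => ?_⟩
  -- evaluation at a pair of points
  let chi : DynLib.Pt k (MonoidAlgebra k N) R → (N →* R) := fun h =>
    h.ofConv.toMonoidHom.comp (MonoidAlgebra.of k N)
  let ev : DynLib.Pt k (MonoidAlgebra k N) R → (MonoidAlgebra A N →ₐ[k] R) := fun h =>
    MonoidAlgebra.liftNCAlgHom g.ofConv (chi h) fun _ _ => Commute.all _ _
  have hev1 : ∀ h (n : N) (b : A), ev h (MonoidAlgebra.single n b) = g.ofConv b * h.ofConv (MonoidAlgebra.single n 1) :=
    fun h n b => MonoidAlgebra.liftNC_single _ _ _ _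
  have hevu : ∀ h, DynLib.push (ev h) uN = h := fun h => pt_ext fun n => by
    show ev h (MonoidAlgebra.lift k (MonoidAlgebra A N) N (MonoidAlgebra.of A N) (MonoidAlgebra.single n 1)) = _
    rw [MonoidAlgebra.lift_single, one_smul, MonoidAlgebra.of_apply, hev1, map_one, _root_.one_mul]
    rfl
  have hevg : ∀ h, DynLib.push (ev h) γg = g := fun h => WithConv.ext (AlgHom.ext fun a => by
    show ev h (MonoidAlgebra.single 1 a) = g.ofConv a
    rw [hev1, ← MonoidAlgebra.one_def, map_one, _root_.mul_one])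
  have hΦ : ∀ h, DynLib.push (ev h) Φ = DynLib.pull θ h * g * (DynLib.pull θ h)⁻¹ := fun h => by
    have h1 : DynLib.push (ev h) (DynLib.pull θ uN) = DynLib.pull θ h := by rw [← congrArg (DynLib.pull θ) (hevu h)]; rfl
    simp only [Φ, map_mul, map_inv, h1, hevg h]
  have hsum : ∀ h, ∀ a ∈ t, (DynLib.pull θ h * g * (DynLib.pull θ h)⁻¹).ofConv a =
      ∑ n ∈ F, g.ofConv ((Φ.ofConv a).coeff n) * h.ofConv (MonoidAlgebra.single n 1) := fun h a ha => by
    rw [← hΦ h]
    show ev h (Φ.ofConv a) = _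
    conv_lhs => rw [← (Φ.ofConv a).sum_coeff_single]
    rw [Finsupp.sum_of_support_subset _ (fun n hn => Finset.mem_insert_of_mem (Finset.mem_biUnion (s := t) (t := fun a => (Φ.ofConv a).coeff.support).2 ⟨a, ha, hn⟩))
      _ (fun n _ => MonoidAlgebra.single_zero n), map_sum]
    simp only [hev1]
    rfl
  -- powers of the point
  let x : N → k := fun n => w.ofConv (MonoidAlgebra.single n 1)
  have hpow : ∀ (i : ℕ), ∀ a ∈ t, g.ofConv a = ∑ n ∈ F, g.ofConv ((Φ.ofConv a).coeff n) * algebraMap k R (x n ^ i) := by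
    intro i a ha
    have hc : Commute g (DynLib.pull θ (DynLib.push (Algebra.ofId k R) w ^ i)) := by
      rw [map_pow]; exact hg.pow_right i
    have h1 := hsum (DynLib.push (Algebra.ofId k R) w ^ i) a ha
    rw [← hc.eq, mul_inv_cancel_right] at h1
    rw [h1]
    refine Finset.sum_congr rfl fun n _ => congrArg _ ?_
    show evS n (DynLib.push (Algebra.ofId k R) w ^ i) = _
    rw [map_pow, map_pow]
    rfl
  have hcoef : ∀ a ∈ t, ∀ n ∈ F, g.ofConv ((Φ.ofConv a).coeff n) = if n = 1 then g.ofConv a else 0 := by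
    intro a ha n₀ hn₀
    let c : N → R := fun n => g.ofConv ((Φ.ofConv a).coeff n) - if n = 1 then g.ofConv a else 0
    have hx1 : x 1 = 1 := by
      show w.ofConv (MonoidAlgebra.single 1 1) = 1
      rw [← MonoidAlgebra.one_def, map_one]
    have hc0 : ∀ i : ℕ, ∑ n ∈ F, c n * algebraMap k R (x n ^ i) = 0 := fun i => by
      simp only [c, sub_mul, Finset.sum_sub_distrib, ← hpow i a ha, ite_mul, zero_mul, Finset.sum_ite_eq',
        Finset.mem_insert_self, F, if_true, hx1, one_pow, map_one, _root_.mul_one, sub_self]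
    have hcP : ∀ P : Polynomial k, ∑ n ∈ F, c n * algebraMap k R (P.eval (x n)) = 0 := fun P => by
      simp only [Polynomial.eval_eq_sum_range, map_sum, map_mul, Finset.mul_sum]
      rw [Finset.sum_comm]
      refine Finset.sum_eq_zero fun i _ => ?_
      simp only [mul_left_comm (c _), ← Finset.mul_sum, hc0, mul_zero]
    let P : Polynomial k := ∏ m ∈ F.erase n₀, (Polynomial.X - Polynomial.C (x m))
    have hP := hcP P
    rw [Finset.sum_eq_single n₀ (fun m hm hne => by
      simp only [P, Polynomial.eval_prod]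
      rw [Finset.prod_eq_zero (Finset.mem_erase.2 ⟨hne, hm⟩) (by simp), map_zero, mul_zero])
      (fun hh => absurd hn₀ hh)] at hP
    have hu : IsUnit (algebraMap k R (P.eval (x n₀))) := IsUnit.map _ (IsUnit.mk0 _ (by
      simp only [P, Polynomial.eval_prod, Polynomial.eval_sub, Polynomial.eval_X, Polynomial.eval_C]
      exact Finset.prod_ne_zero_iff.2 fun m hm => sub_ne_zero.2
        (hw n₀ hn₀ m (Finset.mem_erase.1 hm).2 (Finset.mem_erase.1 hm).1.symm)))
    exact sub_eq_zero.1 (hu.mul_left_eq_zero.1 hP)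
  have hconj : DynLib.pull θ h * g * (DynLib.pull θ h)⁻¹ = g := by
    refine WithConv.ext (AlgHom.ext_of_adjoin_eq_top ht fun a ha => ?_)
    rw [hsum h a ha, Finset.sum_congr rfl (fun n hn => by rw [hcoef a ha n hn])]
    simp [F, ← MonoidAlgebra.one_def]
  exact (mul_inv_eq_iff_eq_mul.1 hconj).symm

end Groth.Agent.CentConn12
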